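import Groth.Agent.Desc.K390.PnSec
import Groth.Prelude.Def_StCurv2
import Groth.Prelude.Def_RelProj

/-!
# Embedded curves

`IsEmb N q j`: `q : X ⟶ T` is a flat, locally finitely presented family with fibres of dimension at most one, embedded
by `j : X ⟶ P^N_ℤ`, that is `(j, q) : X ⟶ P^N_T` is a closed immersion.  `H1van q L`: `H¹` of `L` vanishes on every
field-valued fibre.
-/

set_option autoImplicit false

universe u

open CategoryTheory CategoryTheory.Limits AlgebraicGeometry

namespace K740.Emb

/-- `P^N` over the integers. -/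
noncomputable abbrev PZ (N : ℕ) : Scheme.{u} := CohB1.ProjSpace N (ULift.{u} ℤ)

/-- `(j, q)` embeds `X` as a flat family of closed subschemes of `P^N` of dimension at most one. -/
structure IsEmb {X T : Scheme.{u}} (N : ℕ) (q : X ⟶ T) (j : X ⟶ PZ N) : Prop where
  closed : IsClosedImmersion (K390.PnSec.liftP j q)
  flat : Flat q
  lfp : LocallyOfFinitePresentation q
  dim : ∀ x : X, FlatMor.fibreDimAt q x ≤ 1

/-- `H¹` of `L` vanishes on every fibre over a field-valued point. -/
def H1van {X T : Scheme.{u}} (q : X ⟶ T) (L : X.Modules) : Prop :=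
  ∀ (k : Type u) [Field k] (t : Spec (CommRingCat.of k) ⟶ T) (Y : Scheme.{u}) (i : Y ⟶ X)
    (p : Y ⟶ Spec (CommRingCat.of k)), IsPullback i p q t →
      Subsingleton (Coh.HH Y ((Scheme.Modules.pullback i).obj L) 1)

/-- `O(1)` pulled back along `j : X ⟶ P^N_ℤ`. -/
noncomputable abbrev O1p {X : Scheme.{u}} {N : ℕ} (j : X ⟶ PZ N) : X.Modules :=
  (Scheme.Modules.pullback j).obj (K390.PnSec.O1 N (ULift.{u} ℤ))

end K740.Emb
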