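import Groth.Agent.CurvSt.K740.CurvAlgMain
import Groth.Agent.CurvSt.K902.EtSchFin

/-!
# The stack of curves is algebraic (unconditional)
-/

set_option autoImplicit false

universe w v u

open CategoryTheory CategoryTheory.Limits Opposite AlgebraicGeometry CurvSt AlgSp

namespace K740.CurvAlg

/-- Families of curves are étale locally schemes. -/
theorem etLoc {S : Scheme.{u}} {n : ℕ} (A : SpFamObj S n) (hA : IsCurveFam A) : K901.EtSch.EtLocSch A :=
  K902.EtSchFin.etLocSch hA

/-- **The stack of curves is algebraic.** -/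
theorem isAlgStack_curves (S : Scheme.{u}) (n : ℕ) :
    AlgSt.IsAlgStack Scheme.fppfPrecoverage (Curves S n) :=
  isAlgStack_curves_of S n etLoc

/-- An atlas of the stack of curves which is locally of finite presentation over `S`. -/
theorem exists_atlas_curves (S : Scheme.{u}) (n : ℕ) :
    ∃ (U : Over S) (x : FibCat.overCat U ⥤ᵇ Curves S n), LocallyOfFinitePresentation U.hom ∧
      AlgSt.RepByAlgSpWith (AlgSp.LocP @Smooth) x ∧ AlgSt.RepByAlgSpWith AlgSp.IsSurjectiveMor x :=
  exists_atlas_of S n etLoc

/-- The stack of curves is locally of finite presentation over `S`. -/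
theorem locQ_lfp_toSelf (S : Scheme.{u}) (n : ℕ) :
    AlgSt.LocQ (AlgSp.LocP @LocallyOfFinitePresentation) (FibCat.toSelf (Curves S n)) :=
  locQ_lfp_toSelf_of S n etLoc

end K740.CurvAlg
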