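import Groth.Agent.CurvSt.K740.HilbSep
import Groth.Agent.CurvSt.K502.EmbScheme

/-!
# The locus of the base where two morphisms of embedded families agree is closed
-/

set_option autoImplicit false
set_option linter.unusedSectionVars false
set_option backward.isDefEq.respectTransparency false
set_option backward.isDefEq.respectTransparency.types false

universe u

open CategoryTheory CategoryTheory.Limits AlgebraicGeometry

namespace K740.EqLocus

open K740.Emb K740.Hilb K390.PnSec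

/-- The equalizer of two morphisms to a scheme separated over the integers. -/
theorem exists_equalizer {T H : Scheme.{u}} (hH : IsSeparated (specULiftZIsTerminal.from H)) (g g' : T ⟶ H) :
    ∃ (E : Scheme.{u}) (e : E ⟶ T), IsClosedImmersion e ∧ e ≫ g = e ≫ g' ∧
      ∀ {T' : Scheme.{u}} (t : T' ⟶ T), t ≫ g = t ≫ g' → ∃ l : T' ⟶ E, l ≫ e = t := by
  let w : T ⟶ pullback (specULiftZIsTerminal.from H) (specULiftZIsTerminal.from H) :=
    pullback.lift g g' (specULiftZIsTerminal.hom_ext _ _)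
  refine ⟨pullback w (pullback.diagonal (specULiftZIsTerminal.from H)), pullback.fst _ _, ?_, ?_, ?_⟩
  · infer_instance
  · have h1 : pullback.fst w (pullback.diagonal (specULiftZIsTerminal.from H)) ≫ w =
        pullback.snd w (pullback.diagonal (specULiftZIsTerminal.from H)) ≫ pullback.diagonal _ := pullback.condition
    have h2 := congrArg (· ≫ pullback.fst _ _) h1
    have h3 := congrArg (· ≫ pullback.snd _ _) h1
    simp only [Category.assoc, w, pullback.lift_fst, pullback.lift_snd, pullback.diagonal_fst, pullback.diagonal_snd,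
      Category.comp_id] at h2 h3
    rw [h2, h3]
  · intro T' t ht
    refine ⟨pullback.lift t (t ≫ g) ?_, pullback.lift_fst _ _ _⟩
    apply pullback.hom_ext
    · simp [w]
    · simp [w, ht]

variable {T X Y : Scheme.{u}} {N M : ℕ} {q : X ⟶ T} {j : X ⟶ PZ N} {q' : Y ⟶ T} {j' : Y ⟶ PZ M}

/-- The locus where two morphisms of embedded families agree is represented by a closed subscheme. -/
theorem exists_locus (hX : IsEmb N q j) (hY : IsEmb M q' j') (φ ψ : X ⟶ Y) (hφ : φ ≫ q' = q) (hψ : ψ ≫ q' = q) :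
    ∃ (E : Scheme.{u}) (e : E ⟶ T), IsClosedImmersion e ∧
      ∀ {T' X' : Scheme.{u}} {t : T' ⟶ T} {a : X' ⟶ X} {qX' : X' ⟶ T'}, IsPullback a qX' q t →
        (a ≫ φ = a ≫ ψ ↔ ∃ l : T' ⟶ E, l ≫ e = t) := by
  obtain ⟨K, W, p₁, p₂, s, hs, hW⟩ := K502.EmbScheme.exists_segre.{u} N M
  have hsepM : IsSeparated (specULiftZIsTerminal.from (PZ.{u} M)) := by
    have : specULiftZIsTerminal.from (PZ.{u} M) = CohB1.ProjSpace.toSpec M (ULift.{u} ℤ) :=
      specULiftZIsTerminal.hom_ext _ _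
    rw [this]
    infer_instance
  have hp₁ : IsSeparated p₁ := MorphismProperty.of_isPullback (P := @IsSeparated) hW.flip hsepM
  obtain ⟨H, Z, qH, jH, -, hH, hZ, hu⟩ := exists_hilb_sep K s
  have key : ∀ (θ : X ⟶ Y) (hθ : θ ≫ q' = q), ∃ jθ : X ⟶ W, jθ ≫ p₁ = j ∧ jθ ≫ p₂ = θ ≫ j' ∧ IsEmb K q (jθ ≫ s) := by
    intro θ hθ
    refine ⟨hW.lift j (θ ≫ j') (specULiftZIsTerminal.hom_ext _ _), hW.lift_fst _ _ _, hW.lift_snd _ _ _, ?_, hX.flat,
      hX.lfp, hX.dim⟩
    refine K502.EmbScheme.isClosedImmersion_liftP p₁ s _ q ?_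
    rw [hW.lift_fst]
    exact hX.closed
  obtain ⟨jφ, h1, h2, h3⟩ := key φ hφ
  obtain ⟨jψ, h4, h5, h6⟩ := key ψ hψ
  obtain ⟨g, ⟨i, hi, hij⟩, -⟩ := hu q jφ h3
  obtain ⟨g', ⟨i', hi', hij'⟩, -⟩ := hu q jψ h6
  obtain ⟨E, e, he, heq, hl⟩ := exists_equalizer hH g g'
  refine ⟨E, e, he, ?_⟩
  intro T' X' t a qX' sq
  constructor
  · intro hagree
    refine hl t ?_
    have h7 : a ≫ jφ = a ≫ jψ := by
      refine hW.hom_ext ?_ ?_
      · rw [Category.assoc, Category.assoc, h1, h4]
      · rw [Category.assoc, Category.assoc, h2, h5, reassoc_of% hagree]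
    have h8 : IsEmb K qX' ((a ≫ jφ) ≫ s) := isEmb_bc K s h3 sq
    refine (hu qX' (a ≫ jφ) h8).unique ⟨a ≫ i, sq.paste_horiz hi, by rw [Category.assoc, hij]⟩
      ⟨a ≫ i', sq.paste_horiz hi', by rw [Category.assoc, hij', h7]⟩
  · rintro ⟨l, rfl⟩
    have h7 : (l ≫ e) ≫ g = (l ≫ e) ≫ g' := by rw [Category.assoc, heq, Category.assoc]
    have sq1 := sq.paste_horiz hi
    have sq2 := sq.paste_horiz hi'
    rw [← h7] at sq2
    let c : X' ⟶ X' := sq1.lift (a ≫ i') qX' sq2.w
    have hc1 : c ≫ a ≫ i = a ≫ i' := sq1.lift_fst _ _ _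
    have hc2 : c ≫ qX' = qX' := sq1.lift_snd _ _ _
    have hc3 : c ≫ a ≫ jφ = a ≫ jψ := by rw [← hij, ← hij', reassoc_of% hc1]
    have hE : IsEmb N qX' (a ≫ j) := hX.bc sq
    have hc : c = 𝟙 X' := by
      refine hom_ext_of_mono hE.mono ?_ ?_
      · have := congrArg (· ≫ p₁) hc3
        simp only [Category.assoc, h1, h4] at this
        rw [this, Category.id_comp]
      · rw [hc2, Category.id_comp]
    rw [hc, Category.id_comp] at hc3
    refine hom_ext_of_mono hY.mono ?_ ?_
    · have := congrArg (· ≫ p₂) hc3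
      simpa only [Category.assoc, h2, h5] using this
    · rw [Category.assoc, Category.assoc, hφ, hψ]

end K740.EqLocus
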