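import Groth.Agent.CurvSt.K740.CurvAlgMain
import Groth.Agent.CurvSt.K740.EqLocus
import Groth.Agent.AlgSt.K740.SepDiag

/-!
# The diagonal of the stack of curves is separated (given that curves are étale locally schemes)
-/

set_option autoImplicit false
set_option backward.isDefEq.respectTransparency false
set_option backward.isDefEq.respectTransparency.types false

universe w v u

open CategoryTheory CategoryTheory.Limits Opposite AlgebraicGeometry K734.Fib CurvSt AlgSp

namespace K740.CurvAlg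

open K740.Prod K740.Chart K740.Emb

variable {S : Scheme.{u}} {n : ℕ}

theorem locClosedEq (hE : ∀ A : SpFamObj S n, IsCurveFam A → K901.EtSch.EtLocSch A) :
    K740.SepDiag.LocClosedEq (Curves S n) := by
  have h𝒳 : FibCat.IsFibGrpd (Curves S n).p := (isPrestack S n).1
  intro U ξ η φ ψ hφ hψ t
  obtain rfl := IsHomLift.domain_eq (Curves S n).p (𝟙 U) φ
  have hφi : IsIso φ := isIso_of_vert h𝒳 (IsVert.of_lift hφ)
  let α : ξ ⟶ ξ := ψ ≫ inv φ
  have hα : (Curves S n).p.IsHomLift (𝟙 ((Curves S n).p.obj ξ)) α := by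
    have h1 : (Curves S n).p.IsHomLift (𝟙 ((Curves S n).p.obj ξ)) (inv φ) :=
      (IsVert.isIso_inv (IsVert.of_lift hφ)).lift' rfl
    have h2 : (Curves S n).p.IsHomLift (𝟙 ((Curves S n).p.obj ξ) ≫ 𝟙 ((Curves S n).p.obj ξ)) (ψ ≫ inv φ) :=
      inferInstance
    rwa [Category.comp_id] at h2
  obtain ⟨A₀, m, v, M, r, g1, g2, g3, g4, -⟩ := exists_local projEtLoc ξ.property (hE ξ.obj ξ.property) t
  let ξ' : (Curves S n).obj := ⟨(toSpFam S n).obj A₀, isCurveFam_of_isEmb A₀ g4⟩
  let m' : ξ' ⟶ ξ := ObjectProperty.homMk m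
  have hm' : (Curves S n).p.IsHomLift m.base m' := IsHomLift.map (Curves S n).p m'
  have hmα : (Curves S n).p.IsHomLift (𝟙 _ ≫ m.base) (m' ≫ α) := by
    have h2 : (Curves S n).p.IsHomLift (m.base ≫ 𝟙 ((Curves S n).p.obj ξ)) (m' ≫ α) := inferInstance
    have h3 : m.base ≫ 𝟙 ((Curves S n).p.obj ξ) = m.base := Category.comp_id _
    rw [Category.id_comp]
    exact h3 ▸ h2
  obtain ⟨ψ₀, hψ₀, e⟩ := exists_fac' h𝒳 hm' hmα
  obtain ⟨β, hβ⟩ := (toSpFam S n).map_surjective ψ₀.hom
  have hβ1 : β.base = 𝟙 _ := by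
    have h3 : (Curves S n).p.map ψ₀ = 𝟙 _ := (isHomLift_iff_map_eq _ _).1 hψ₀
    have h4 : ((toSpFam S n).map β).base = ψ₀.hom.base := by rw [hβ]
    exact h4.trans h3
  have hβ2 : β.top ≫ A₀.f = A₀.f := by
    have := β.cart.w
    rw [this, hβ1]
    exact Category.comp_id _
  obtain ⟨E, ε, hε, hE'⟩ := K740.EqLocus.exists_locus g4 g4 (𝟙 A₀.C) β.top (Category.id_comp _) hβ2
  refine ⟨A₀.base, ξ', m.base, m', v, Over.mk (ε ≫ A₀.base.hom), Over.homMk ε rfl, hm', g2, g3, hε, ?_⟩
  intro W ζ h c hc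
  obtain rfl := IsHomLift.domain_eq (Curves S n).p h c
  obtain rfl : (Curves S n).p.map c = h := (isHomLift_iff_map_eq _ _).1 hc
  have h1 : c ≫ m' ≫ φ = c ≫ m' ≫ ψ ↔ c = c ≫ ψ₀ := by
    constructor
    · intro h5
      have h6 : c ≫ m' = (c ≫ ψ₀) ≫ m' := by
        rw [Category.assoc, e]
        change c ≫ m' = c ≫ m' ≫ ψ ≫ inv φ
        rw [← Category.assoc, ← cancel_mono φ]
        simpa using h5
      refine fac_unique h𝒳 m' ?_ h6
      rw [Functor.map_comp, (isHomLift_iff_map_eq _ _).1 hψ₀]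
      exact (Category.comp_id _).symm
    · intro h5
      have h6 : c ≫ m' = c ≫ m' ≫ ψ ≫ inv φ := by
        have h7 := congrArg (· ≫ m') h5
        simp only [Category.assoc, e] at h7
        exact h7
      calc c ≫ m' ≫ φ = (c ≫ m') ≫ φ := (Category.assoc _ _ _).symm
        _ = (c ≫ m' ≫ ψ ≫ inv φ) ≫ φ := by rw [h6]
        _ = _ := by simp
  rw [h1]
  obtain ⟨ζ₀, ⟨e₁⟩⟩ := exists_iso_of_hom c.hom
  obtain ⟨c₀, hc₀⟩ := (toSpFam S n).map_surjective (e₁.hom ≫ c.hom)
  have h2 : c = c ≫ ψ₀ ↔ c₀.top = c₀.top ≫ β.top := by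
    constructor
    · intro h5
      have h6 : c₀ = c₀ ≫ β := by
        apply (toSpFam S n).map_injective
        rw [Functor.map_comp, hc₀, hβ, Category.assoc]
        congr 1
        exact congrArg (fun f => f.hom) h5
      exact congrArg PtFamObj.Hom.top h6
    · intro h5
      have h6 : c₀ = c₀ ≫ β := by
        apply PtFamObj.Hom.ext
        · change c₀.base = c₀.base ≫ β.base
          rw [hβ1]
          exact (Category.comp_id _).symm
        · exact h5
      have h7 : e₁.hom ≫ c.hom = e₁.hom ≫ c.hom ≫ ψ₀.hom := by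
        rw [← hβ, ← Category.assoc, ← hc₀, ← Functor.map_comp, ← h6]
      rw [cancel_epi] at h7
      exact ObjectProperty.hom_ext _ h7
  rw [h2]
  have h3 := hE' c₀.cart
  rw [Category.comp_id] at h3
  rw [h3]
  have hb : c₀.base = e₁.hom.base ≫ c.hom.base := congrArg SpFamObj.Hom.base hc₀
  have hi1 : e₁.inv.base ≫ e₁.hom.base = 𝟙 _ := congrArg SpFamObj.Hom.base e₁.inv_hom_id
  constructor
  · rintro ⟨l, hl⟩
    have h8 : (e₁.inv.base.left ≫ l) ≫ ε = c.hom.base.left := by
      rw [Category.assoc, hl, hb, Over.comp_left, ← Category.assoc, ← Over.comp_left, hi1]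
      exact Category.id_comp _
    refine ⟨Over.homMk (e₁.inv.base.left ≫ l) ?_, ?_⟩
    · change (e₁.inv.base.left ≫ l) ≫ ε ≫ A₀.base.hom = _
      rw [← Category.assoc, h8]
      exact Over.w c.hom.base
    · apply Over.OverMorphism.ext
      exact h8
  · rintro ⟨l, hl⟩
    refine ⟨e₁.hom.base.left ≫ l.left, ?_⟩
    have h8 : l.left ≫ ε = c.hom.base.left := congrArg (fun f => f.left) hl
    rw [Category.assoc, h8, hb]
    rfl

/-- The diagonal of the stack of curves is separated. -/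
theorem isSeparatedMor_diag_of (S : Scheme.{u}) (n : ℕ)
    (hE : ∀ A : SpFamObj S n, IsCurveFam A → K901.EtSch.EtLocSch A) :
    AlgSt.RepByAlgSpWith AlgSp.IsSeparatedMor (FibCat.diag (FibCat.toSelf (Curves S n))) :=
  K740.SepDiag.isSeparatedMor_diag (isPrestack S n).1 (isAlgStack_curves_of S n hE).diag (locClosedEq hE)

end K740.CurvAlg
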