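import Groth.Agent.CurvSt.K740.CurvAlgFin
import Groth.Agent.CurvSt.K740.DiagSep

/-!
# The diagonal of the stack of curves is separated (unconditional)
-/

set_option autoImplicit false

universe w v u

open CategoryTheory CategoryTheory.Limits Opposite AlgebraicGeometry CurvSt AlgSp

namespace K740.CurvAlg

/-- The diagonal of the stack of curves is representable by algebraic spaces and separated. -/
theorem isSeparatedMor_diag (S : Scheme.{u}) (n : ℕ) :
    AlgSt.RepByAlgSpWith AlgSp.IsSeparatedMor (FibCat.diag (FibCat.toSelf (Curves S n))) :=
  isSeparatedMor_diag_of S n etLoc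

end K740.CurvAlg
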