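import Groth.Agent.AlgSt.K740.ProdPair
import Groth.Agent.CurvSt.K901.RepTools
import Groth.Agent.CurvSt.K742.AtlasMain
import Groth.Agent.CurvSt.K742.LocBase

/-!
# Charts from products in the total category
-/

set_option autoImplicit false
set_option linter.unusedVariables false
set_option backward.isDefEq.respectTransparency false
set_option backward.isDefEq.respectTransparency.types false

universe w v u

open CategoryTheory CategoryTheory.Limits Opposite AlgebraicGeometry K734.Fib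

namespace K740.Prod

open K746

variable {S : Scheme.{u}}

section

variable {𝒳 : BasedCategory.{v, w} (Over S)} (h𝒳 : FibCat.IsFibGrpd 𝒳.p)

theorem IsProd.comp_iso {ξ ξ' η ρ : 𝒳.obj} {a : ρ ⟶ ξ} {b : ρ ⟶ η} (h : IsProd a b) (e : ξ ≅ ξ') :
    IsProd (a ≫ e.hom) b := by
  intro ζ a' b'
  obtain ⟨c, ⟨h1, h2⟩, hu⟩ := h ζ (a' ≫ e.inv) b'
  refine ⟨c, ⟨by rw [reassoc_of% h1, e.inv_hom_id, Category.comp_id], h2⟩, ?_⟩
  rintro c' ⟨h3, h4⟩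
  refine hu c' ⟨?_, h4⟩
  rw [← h3]
  simp

include h𝒳 in
/-- The chart of a product. -/
theorem exists_rep_of_prod {Q : MorphismProperty Scheme.{u}} (hE : K597.EtLoc Q) {V U : Over S}
    {y : FibCat.overCat V ⥤ᵇ 𝒳} {x : FibCat.overCat U ⥤ᵇ 𝒳} {ρ : 𝒳.obj} (a : ρ ⟶ y.obj (one V))
    (b : ρ ⟶ x.obj (one U)) {s : 𝒳.p.obj ρ ⟶ V} (hs : 𝒳.p.IsHomLift s a) (H : IsProd a b) (hQ : Q s.left) :
    ∃ (F : AlgSp.Space S) (e : AlgSt.ofSp F.obj ⥤ᵇ FibCat.fp y x),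
      FibCat.IsEquivOver e ∧ AlgSp.LocP Q (AlgSt.spMapOfOver (BasedFunctor.comp e (FibCat.fpFst y x))) := by
  have hb : 𝒳.p.IsHomLift (𝒳.p.map b ≫ eqToHom (x.w_obj (one U))) b := by
    apply IsHomLift.of_fac 𝒳.p _ b rfl (x.w_obj (one U))
    simp
  obtain ⟨G, hG1, -⟩ := exists_pairRep h𝒳 a b hs hb H
  refine ⟨⟨(AlgSp.yon S).obj (𝒳.p.obj ρ), AlgSp.IsAlgSpace.yon_obj _⟩,
    BasedFunctor.comp (AlgSt.toOverCat _) (K734.Pair.pairFun G h𝒳),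
    isEquivOver_comp (K901.RepTools.isEquivOver_toOverCat _) (K734.Pair.isEquivOver_pairFun G h𝒳), ?_⟩
  have h1 : AlgSt.spMapOfOver (BasedFunctor.comp (BasedFunctor.comp (AlgSt.toOverCat (𝒳.p.obj ρ))
      (K734.Pair.pairFun G h𝒳)) (FibCat.fpFst y x)) = (AlgSp.yon S).map G.s :=
    K901.RepTools.spMapOfOver_overMap G.s
  rw [h1, hG1]
  exact K597.locP_of_chart hE ((AlgSp.yon S).map s) (𝟙 _) (𝟙 _) s (AlgSp.repWith_id _ _) (AlgSp.repWith_id _ _)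
    (AlgSp.repWith_id _ _) (by rw [Category.id_comp, Category.comp_id]) hQ

include h𝒳 in
/-- Surjectivity in terms of objects. -/
theorem surj_of_objects {I : Type u} (U : I → Over S) (x : ∀ i, FibCat.overCat (U i) ⥤ᵇ 𝒳)
    (H : ∀ (Ω : Type u) [Field Ω] [IsAlgClosed Ω] (t : Spec (CommRingCat.of Ω) ⟶ S) (ξ : 𝒳.obj)
      (_ : 𝒳.p.obj ξ = Over.mk t), ∃ i : I, Nonempty (ξ ⟶ (x i).obj (one (U i)))) (p : AlgSt.Points 𝒳) :
    ∃ (i : I) (t : ↥(U i).left), AlgSt.Points.ofChart (x i) t = p := by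
  refine K742.AtlasU.surj_of_geom h𝒳 U x (fun Ω _ _ t y => ?_) p
  obtain ⟨i, ⟨b⟩⟩ := H Ω t (y.obj (one _)) (y.w_obj (one _))
  let k : Over.mk t ⟶ U i := eqToHom (y.w_obj (one (Over.mk t))).symm ≫ 𝒳.p.map b ≫ eqToHom ((x i).w_obj (one (U i)))
  have hk : 𝒳.p.IsHomLift k b := by
    apply IsHomLift.of_fac 𝒳.p k b (y.w_obj (one (Over.mk t))) ((x i).w_obj (one (U i)))
    rfl
  have hk' : 𝒳.p.IsHomLift k ((x i).map (toOne (Over.mk (𝟙 _ ≫ k)))) := by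
    have := rs_lift (x i) (𝟙 (Over.mk t) ≫ k) (u := 𝟙 (U i)) (u' := 𝟙 (Over.mk t) ≫ k) (Category.comp_id _)
    have h2 : 𝟙 (Over.mk t) ≫ k = k := Category.id_comp k
    exact Eq.mp (congrArg (fun z => 𝒳.p.IsHomLift z ((x i).map (toOne (Over.mk (𝟙 _ ≫ k))))) h2) this
  obtain ⟨e, he, -⟩ := exists_iso_of_lift h𝒳 hk' hk
  exact ⟨i, k, ⟨isoOfOne h𝒳 e he⟩⟩

end

section

variable {𝒳 : BasedCategory.{u + 1, w} (Over S)}

theorem repByAlgSpWith_of_prod (hs : Stk.IsPrestack (AlgSp.J S) 𝒳) {Q : MorphismProperty Scheme.{u}}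
    (hE : K597.EtLoc Q) {U : Over S} (X : FibCat.overCat U ⥤ᵇ 𝒳)
    (H : ∀ (ξ : 𝒳.obj) (t : (𝒳.p.obj ξ).left), ∃ (ξ' ρ : 𝒳.obj) (m : ξ' ⟶ ξ) (v : (𝒳.p.obj ξ').left) (a : ρ ⟶ ξ')
      (b : ρ ⟶ X.obj (one U)), Etale (𝒳.p.map m).left ∧ (𝒳.p.map m).left v = t ∧ IsProd a b ∧ Q (𝒳.p.map a).left) :
    AlgSt.RepByAlgSpWith (AlgSp.LocP Q) X := by
  refine K742.AtlasU.repByAlgSpWith_of_local_base hs hE X fun T y t => ?_
  have hξ : 𝒳.p.obj (y.obj (one T)) = T := y.w_obj (one T)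
  obtain ⟨ξ', ρ, m, v, a, b, h1, h2, h3, h4⟩ := H (y.obj (one T)) ((eqToHom hξ.symm).left t)
  let g : 𝒳.p.obj ξ' ⟶ T := 𝒳.p.map m ≫ eqToHom hξ
  have hg : 𝒳.p.IsHomLift g m := by
    apply IsHomLift.of_fac 𝒳.p g m rfl hξ
    simp [g]
  refine ⟨𝒳.p.obj ξ', g, v, ?_, ?_, ?_⟩
  · have : IsIso (eqToHom hξ).left := inferInstanceAs (IsIso ((Over.forget S).map (eqToHom hξ)))
    exact inferInstanceAs (Etale ((𝒳.p.map m).left ≫ (eqToHom hξ).left))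
  · have h5 : g.left v = (eqToHom hξ).left ((𝒳.p.map m).left v) := rfl
    have h6 : ((eqToHom hξ.symm).left ≫ (eqToHom hξ).left) t = t := by
      rw [← Over.comp_left, eqToHom_trans, eqToHom_refl]
      rfl
    rw [h5, h2]
    exact h6
  · have hk' : 𝒳.p.IsHomLift g (y.map (toOne (Over.mk (𝟙 _ ≫ g)))) := by
      have := rs_lift y (𝟙 (𝒳.p.obj ξ') ≫ g) (u := 𝟙 T) (u' := 𝟙 (𝒳.p.obj ξ') ≫ g) (Category.comp_id _)
      have h2 : 𝟙 (𝒳.p.obj ξ') ≫ g = g := Category.id_comp g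
      exact Eq.mp (congrArg (fun z => 𝒳.p.IsHomLift z (y.map (toOne (Over.mk (𝟙 _ ≫ g))))) h2) this
    obtain ⟨e, he, -⟩ := exists_iso_of_lift hs.1 hg hk'
    have ha : 𝒳.p.IsHomLift (𝒳.p.map a) a := inferInstance
    exact exists_rep_of_prod (y := BasedFunctor.comp (AlgSt.overMap g) y) hs.1 hE (a ≫ e.hom) b (comp_vert_lift ha he)
      (h3.comp_iso e) h4

end

end K740.Prod
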