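import Groth.Agent.CurvSt.K740.ChartObj
import Groth.Agent.CurvSt.K740.ProdRep
import Groth.Agent.CurvSt.K739.CurvesStack
import Groth.Agent.CurvSt.K902.EtSchRed
import Groth.Agent.CurvSt.K898.SchStk
import Groth.Agent.CurvSt.K898.MbarEq
import Groth.Agent.AlgSp.K639.Dim
import Mathlib.AlgebraicGeometry.Sites.EtalePoint

/-!
# The stack of curves is algebraic
-/

set_option autoImplicit false
set_option linter.unusedVariables false
set_option backward.isDefEq.respectTransparency false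
set_option backward.isDefEq.respectTransparency.types false

universe w v u

open CategoryTheory CategoryTheory.Limits Opposite AlgebraicGeometry K734.Fib CurvSt AlgSp

namespace K740.CurvAlg

open K740.Prod K740.Chart K740.Emb

variable {S : Scheme.{u}} {n : ℕ}

/-- A family with a morphism to a family of schemes is a family of schemes. -/
theorem exists_iso_of_hom {ζ : SpFamObj S n} {A : PtFamObj S n} (φ : ζ ⟶ (toSpFam S n).obj A) :
    ∃ ζ₀ : PtFamObj S n, Nonempty ((toSpFam S n).obj ζ₀ ≅ ζ) := by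
  let b : ζ.base ⟶ A.base := φ.base
  have sqP : IsPullback (pullback.fst A.fOver b) (pullback.snd A.fOver b) A.fOver b := IsPullback.of_hasPullback _ _
  have sqY := sqP.map (yon S)
  have hc : IsPullback φ.top ζ.f ((yon S).map A.fOver) ((yon S).map b) := φ.cart
  let j : (yon S).obj (pullback A.fOver b) ⟶ ζ.X := hc.lift _ _ sqY.w
  have hj2 : j ≫ ζ.f = (yon S).map (pullback.snd A.fOver b) := hc.lift_snd _ _ _
  have hj1 : j ≫ φ.top = (yon S).map (pullback.fst A.fOver b) := hc.lift_fst _ _ _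
  have hji : IsIso j := by
    refine ⟨⟨sqY.lift φ.top ζ.f hc.w, ?_, ?_⟩⟩
    · refine sqY.hom_ext ?_ ?_
      · rw [Category.assoc, sqY.lift_fst, hj1, Category.id_comp]
      · rw [Category.assoc, sqY.lift_snd, hj2, Category.id_comp]
    · refine hc.hom_ext ?_ ?_
      · rw [Category.assoc, hj1, sqY.lift_fst, Category.id_comp]
      · rw [Category.assoc, hj2, sqY.lift_snd, Category.id_comp]
  have sq : IsPullback j ((yon S).map (pullback.snd A.fOver b)) ζ.f ((yon S).map (𝟙 ζ.base)) := by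
    refine IsPullback.of_horiz_isIso ⟨?_⟩
    rw [hj2, CategoryTheory.Functor.map_id, Category.comp_id]
  have : IsIso (K898.SchStk.sqFamHom sq).base := by
    change IsIso (𝟙 ζ.base)
    infer_instance
  have := K898.SchStk.isIso_of (K898.SchStk.sqFamHom sq)
  exact ⟨K898.SchStk.sqFam sq, ⟨asIso (K898.SchStk.sqFamHom sq)⟩⟩

theorem isProd_curves {A B ρ : PtFamObj S n} (a : ρ ⟶ A) (b : ρ ⟶ B)
    (H : ∀ (ζ : PtFamObj S n) (a' : ζ ⟶ A) (b' : ζ ⟶ B), ∃! c : ζ ⟶ ρ, c ≫ a = a' ∧ c ≫ b = b')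
    (hA : IsCurveFam ((toSpFam S n).obj A)) (hB : IsCurveFam ((toSpFam S n).obj B))
    (hρ : IsCurveFam ((toSpFam S n).obj ρ)) :
    IsProd (𝒳 := Curves S n) (ξ := ⟨(toSpFam S n).obj A, hA⟩) (η := ⟨(toSpFam S n).obj B, hB⟩)
      (ρ := ⟨(toSpFam S n).obj ρ, hρ⟩) (ObjectProperty.homMk ((toSpFam S n).map a))
      (ObjectProperty.homMk ((toSpFam S n).map b)) := by
  rintro ⟨ζ, hζ⟩ a' b'
  obtain ⟨ζ₀, ⟨e⟩⟩ := exists_iso_of_hom a'.hom
  obtain ⟨a₀, ha₀⟩ := (toSpFam S n).map_surjective (e.hom ≫ a'.hom)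
  obtain ⟨b₀, hb₀⟩ := (toSpFam S n).map_surjective (e.hom ≫ b'.hom)
  obtain ⟨c, ⟨h1, h2⟩, hu⟩ := H ζ₀ a₀ b₀
  refine ⟨ObjectProperty.homMk (e.inv ≫ (toSpFam S n).map c), ⟨?_, ?_⟩, ?_⟩
  · apply ObjectProperty.hom_ext
    change (e.inv ≫ (toSpFam S n).map c) ≫ (toSpFam S n).map a = a'.hom
    rw [Category.assoc, ← Functor.map_comp, h1, ha₀, e.inv_hom_id_assoc]
  · apply ObjectProperty.hom_ext
    change (e.inv ≫ (toSpFam S n).map c) ≫ (toSpFam S n).map b = b'.hom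
    rw [Category.assoc, ← Functor.map_comp, h2, hb₀, e.inv_hom_id_assoc]
  · rintro c' ⟨h3, h4⟩
    obtain ⟨c₀, hc₀⟩ := (toSpFam S n).map_surjective (e.hom ≫ c'.hom)
    have h5 : c₀ = c := by
      refine hu c₀ ⟨?_, ?_⟩
      · apply (toSpFam S n).map_injective
        rw [Functor.map_comp, hc₀, ha₀, Category.assoc, ← h3]
        rfl
      · apply (toSpFam S n).map_injective
        rw [Functor.map_comp, hc₀, hb₀, Category.assoc, ← h4]
        rfl
    apply ObjectProperty.hom_ext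
    change c'.hom = e.inv ≫ (toSpFam S n).map c
    rw [← h5, hc₀, e.inv_hom_id_assoc]

theorem isCurveFam_of_isEmb (A : PtFamObj S n) {N : ℕ} {j : A.C ⟶ PZ N} (h : IsEmb N A.f j) :
    IsCurveFam ((toSpFam S n).obj A) :=
  K899.CurveFam.isCurveFam_toSpFam A h.flat h.isProper h.lfp h.dim

/-- Étale locally a family of curves is an embedded family of schemes. -/
theorem exists_local (H2 : K902.EtSchRed.ProjEtLoc.{u}) {A : SpFamObj S n} (hA : IsCurveFam A)
    (hE : K901.EtSch.EtLocSch A) (s : A.base.left) :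
    ∃ (A₀ : PtFamObj S n) (m : (toSpFam S n).obj A₀ ⟶ A) (v : A₀.base.left) (M : ℕ) (r : A₀.C ⟶ PZ M),
      IsAffine A₀.base.left ∧ Etale m.base.left ∧ m.base.left v = s ∧ IsEmb M A₀.f r ∧
      RelProj.IsHProjective A₀.f := by
  obtain ⟨T', g, v, X', q, j, h1, h2, h3, sq, h4⟩ := K902.EtSchRed.exists_hProjective H2 hA hE s
  obtain ⟨f1, f2, f3, f4⟩ := K901.SchFib.facts hA sq
  obtain ⟨M, i, hi, hiq⟩ := id h4
  refine ⟨K898.SchStk.sqFam sq, K898.SchStk.sqFamHom sq, v, M, i ≫ Groth.Agent.Dix.ProjProper.toZ M T', h1, h2, h3,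
    ⟨?_, f1, f3, f4⟩, h4⟩
  have h5 : K390.PnSec.liftP (i ≫ Groth.Agent.Dix.ProjProper.toZ M T') q = i := by
    apply K390.PnSec.hom_ext_over
    · rw [K390.PnSec.liftP_toZ]
    · rw [K390.PnSec.liftP_toBase, hiq]
  change IsClosedImmersion (K390.PnSec.liftP (i ≫ Groth.Agent.Dix.ProjProper.toZ M T') q)
  rw [h5]
  exact hi

theorem isStack (S : Scheme.{u}) (n : ℕ) : Stk.IsStack (QuotSh.J Scheme.fppfPrecoverage S) (Curves S n) :=
  K739.CurvesStack.isStack_curves S n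

theorem isPrestack (S : Scheme.{u}) (n : ℕ) : Stk.IsPrestack (AlgSp.J S) (Curves S n) :=
  K742.AtlasU.isPrestack_of_isStack (isStack S n)

theorem IsProd.iso_right {𝒳 : BasedCategory.{v, w} (Over S)} {ξ η η' ρ : 𝒳.obj} {a : ρ ⟶ ξ} {b : ρ ⟶ η}
    (h : IsProd a b) (e : η ≅ η') : IsProd a (b ≫ e.hom) := by
  intro ζ a' b'
  obtain ⟨c, ⟨h1, h2⟩, hu⟩ := h ζ a' (b' ≫ e.inv)
  refine ⟨c, ⟨h1, by rw [reassoc_of% h2, e.inv_hom_id, Category.comp_id]⟩, ?_⟩
  rintro c' ⟨h3, h4⟩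
  refine hu c' ⟨h3, ?_⟩
  rw [← h4]
  simp

/-- The chart of curves embedded in `P^N` with vanishing `H¹`. -/
theorem exists_chart' (h4 : OpensH1van.{u}) (h3 : EmbScheme.{u}) (H2 : K902.EtSchRed.ProjEtLoc.{u})
    (hE : ∀ A : SpFamObj S n, IsCurveFam A → K901.EtSch.EtLocSch A) (N : ℕ) :
    ∃ (B : PtFamObj S n) (jB : B.C ⟶ PZ N) (x : FibCat.overCat B.base ⥤ᵇ Curves S n),
      LocallyOfFinitePresentation B.base.hom ∧ IsEmb1 N B.f jB ∧
      AlgSt.RepByAlgSpWith (AlgSp.LocP @Smooth) x ∧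
      ∀ (A : PtFamObj S n) (j : A.C ⟶ PZ N) (_ : IsEmb1 N A.f j) (hA : IsCurveFam ((toSpFam S n).obj A)),
        Nonempty ((⟨(toSpFam S n).obj A, hA⟩ : (Curves S n).obj) ⟶ x.obj (one B.base)) := by
  obtain ⟨B, jB, hlfp, hB, hB2, hB3⟩ := exists_prod' h4 h3 S n N
  have hBc : IsCurveFam ((toSpFam S n).obj B) := isCurveFam_of_isEmb B hB.1
  let η : (Curves S n).obj := ⟨(toSpFam S n).obj B, hBc⟩
  obtain ⟨x, e, he⟩ := exists_yo (isPrestack S n).1 (U := B.base) η rfl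
  refine ⟨B, jB, x, hlfp, hB, ?_, ?_⟩
  · refine repByAlgSpWith_of_prod (isPrestack S n) K597.etLoc_smooth x fun ξ t => ?_
    obtain ⟨A₀, m, v, M, r, g1, g2, g3, g4, -⟩ := exists_local H2 ξ.property (hE ξ.obj ξ.property) t
    obtain ⟨ρ, a, b, hsm, hprod⟩ := hB3 A₀ g1 M r g4
    have hA₀ : IsCurveFam ((toSpFam S n).obj A₀) := isCurveFam_of_isEmb A₀ g4
    have hρ : IsCurveFam ((toSpFam S n).obj ρ) := K898.MbarEq.isCurveFam_of_hom ((toSpFam S n).map a) hA₀
    let ξ' : (Curves S n).obj := ⟨(toSpFam S n).obj A₀, hA₀⟩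
    let ρ' : (Curves S n).obj := ⟨(toSpFam S n).obj ρ, hρ⟩
    let a' : ρ' ⟶ ξ' := ObjectProperty.homMk ((toSpFam S n).map a)
    let b' : ρ' ⟶ η := ObjectProperty.homMk ((toSpFam S n).map b)
    have hP : IsProd a' b' := isProd_curves a b hprod hA₀ hBc hρ
    let m' : ξ' ⟶ ξ := ObjectProperty.homMk m
    exact ⟨ξ', ρ', m', v, a', b' ≫ e.inv, g2, g3, IsProd.iso_right hP e.symm, hsm⟩
  · intro A j hj hA
    obtain ⟨b, -⟩ := hB2 A j hj
    exact ⟨ObjectProperty.homMk ((toSpFam S n).map b) ≫ e.inv⟩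

/-- The chart of curves embedded in `P^N` with vanishing `H¹`. -/
theorem exists_chart (h4 : OpensH1van.{u}) (h3 : EmbScheme.{u}) (H2 : K902.EtSchRed.ProjEtLoc.{u})
    (hE : ∀ A : SpFamObj S n, IsCurveFam A → K901.EtSch.EtLocSch A) (N : ℕ) :
    ∃ (B : PtFamObj S n) (jB : B.C ⟶ PZ N) (x : FibCat.overCat B.base ⥤ᵇ Curves S n), IsEmb1 N B.f jB ∧
      AlgSt.RepByAlgSpWith (AlgSp.LocP @Smooth) x ∧
      ∀ (A : PtFamObj S n) (j : A.C ⟶ PZ N) (_ : IsEmb1 N A.f j) (hA : IsCurveFam ((toSpFam S n).obj A)),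
        Nonempty ((⟨(toSpFam S n).obj A, hA⟩ : (Curves S n).obj) ⟶ x.obj (one B.base)) := by
  obtain ⟨B, jB, x, -, h⟩ := exists_chart' h4 h3 H2 hE N
  exact ⟨B, jB, x, h⟩

theorem dim_le_of_fibreDimAt {K : Type u} [Field K] {Y : Scheme.{u}} (q : Y ⟶ Spec (CommRingCat.of K))
    [LocallyOfFiniteType q] {d : WithBot ℕ∞} (h : ∀ y, FlatMor.fibreDimAt q y ≤ d) : topologicalKrullDim Y ≤ d := by
  let s : Spec (CommRingCat.of K) := IsLocalRing.closedPoint K
  have h1 := (K639.Dim.dim_fiber_le_iff q s d).2 fun u _ => h u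
  have h2 : q ⁻¹' {s} = Set.univ := by
    ext y
    simp only [Set.mem_preimage, Set.mem_singleton_iff, Set.mem_univ, iff_true]
    exact Subsingleton.elim (α := PrimeSpectrum K) _ _
  let e : ↥(q.fiber s) ≃ₜ ↥Y := (q.fiberHomeo s).trans ((Homeomorph.setCongr h2).trans (Homeomorph.Set.univ _))
  rw [← e.isHomeomorph.topologicalKrullDim_eq]
  exact h1

/-- Base change of a pointed family. -/
theorem exists_bc (A : PtFamObj S n) {T' : Over S} (σ : T' ⟶ A.base) :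
    ∃ (A' : PtFamObj S n) (h : A'.base = T') (m : A' ⟶ A), m.base = eqToHom h ≫ σ ∧
      IsPullback m.top A'.f A.f m.base.left := by
  let sq := IsPullback.of_hasPullback A.f σ.left
  let A' : PtFamObj S n :=
    { base := T'
      C := pullback A.f σ.left
      f := pullback.snd _ _
      sect := fun k => sq.lift (σ.left ≫ A.sect k) (𝟙 _) (by rw [Category.assoc, A.sect_f, Category.comp_id, Category.id_comp])
      sect_f := fun k => sq.lift_snd _ _ _ }
  let m : A' ⟶ A :=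
    { base := σ
      top := pullback.fst _ _
      cart := sq
      w_sect := fun k => sq.lift_fst _ _ _ }
  exact ⟨A', rfl, m, by simp [m], m.cart⟩

/-- (P6), as a hypothesis -/
def ExistsEmb : Prop :=
  ∀ (k : Type u) [Field k] {Y : Scheme.{u}} (p : Y ⟶ Spec (CommRingCat.of k))
    (_ : RelProj.IsHProjective p) (_ : topologicalKrullDim Y ≤ 1), ∃ (N : ℕ) (j : Y ⟶ PZ N), IsEmb N p j ∧ H1van p (O1p j)

theorem isHProjective_bc {X Y X' Y' : Scheme.{u}} {f : X ⟶ Y} {f' : X' ⟶ Y'} {a : X' ⟶ X} {t : Y' ⟶ Y}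
    (sq : IsPullback a f' f t) (h : RelProj.IsHProjective f) : RelProj.IsHProjective f' := by
  obtain ⟨M, i, hi, hif⟩ := h
  have h0 := Groth.Agent.Dix.ProjProper.isPullback_mapBase M t
  have hw : (a ≫ i) ≫ CohB1.ProjSpaceOver.toBase M Y = f' ≫ t := by rw [Category.assoc, hif, sq.w]
  let i' := h0.lift (a ≫ i) f' hw
  have h1 : i' ≫ Groth.Agent.Dix.ProjProper.mapBase M t = a ≫ i := h0.lift_fst _ _ _
  have h2 : i' ≫ CohB1.ProjSpaceOver.toBase M Y' = f' := h0.lift_snd _ _ _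
  have sq' : IsPullback a i' i (Groth.Agent.Dix.ProjProper.mapBase M t) := by
    refine IsPullback.of_bot ?_ h1.symm h0
    rw [hif, h2]
    exact sq
  exact ⟨M, i', MorphismProperty.of_isPullback (P := @IsClosedImmersion) sq' hi, h2⟩

/-- Over an algebraically closed field a family of curves is an embedded family with vanishing `H¹`. -/
theorem exists_geom (H2 : K902.EtSchRed.ProjEtLoc.{u}) (h6 : ExistsEmb.{u}) (Ω : Type u) [Field Ω] [IsAlgClosed Ω]
    (t : Spec (CommRingCat.of Ω) ⟶ S) {A : SpFamObj S n} (hb : A.base = Over.mk t) (hA : IsCurveFam A)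
    (hE : K901.EtSch.EtLocSch A) :
    ∃ (A₁ : PtFamObj S n) (_ : (toSpFam S n).obj A₁ ≅ A) (N : ℕ) (j : A₁.C ⟶ PZ N), IsEmb1 N A₁.f j := by
  obtain ⟨base, X, f, sect, sf⟩ := A
  dsimp at hb
  subst hb
  obtain ⟨A₀, m, v, M, r, g1, g2, g3, g4, g5⟩ := exists_local H2 hA hE (default : Spec (CommRingCat.of Ω))
  obtain ⟨l, hl1, -⟩ := Scheme.exists_fac_of_etale_of_isSepClosed m.base.left (𝟙 _) v g3
  let σ : Over.mk t ⟶ A₀.base := Over.homMk l (by
    have h : m.base.left ≫ t = A₀.base.hom := Over.w m.base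
    have h' : (l ≫ m.base.left) ≫ t = t := (congrArg (fun z => z ≫ t) hl1).trans (Category.id_comp _)
    change l ≫ A₀.base.hom = t
    rw [← h]
    exact (Category.assoc _ _ _).symm.trans h')
  obtain ⟨A₁, hb, m₁, hm₁, sq⟩ := exists_bc A₀ σ
  obtain ⟨base₁, C₁, f₁, sect₁, sf₁⟩ := A₁
  dsimp at hb
  subst hb
  let φ : (toSpFam S n).obj ⟨Over.mk t, C₁, f₁, sect₁, sf₁⟩ ⟶ _ := (toSpFam S n).map m₁ ≫ m
  have hφ : φ.base = 𝟙 _ := by
    change m₁.base ≫ m.base = 𝟙 _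
    rw [hm₁]
    apply Over.OverMorphism.ext
    simp only [eqToHom_refl, Category.id_comp]
    exact hl1
  have : IsIso φ.base := by rw [hφ]; infer_instance
  have := K898.SchStk.isIso_of φ
  have hE₁ : IsEmb M f₁ (m₁.top ≫ r) := g4.bc sq
  have hl := hE₁.lfp
  obtain ⟨N, j, h7, h8⟩ := h6 Ω f₁ (isHProjective_bc sq g5) (dim_le_of_fibreDimAt f₁ hE₁.dim)
  exact ⟨_, asIso φ, N, j, h7, h8⟩

/-- An atlas of the stack of curves, locally of finite presentation over `S`. -/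
theorem exists_atlas (h4 : OpensH1van.{u}) (h3 : EmbScheme.{u}) (H2 : K902.EtSchRed.ProjEtLoc.{u})
    (h6 : ExistsEmb.{u}) (hE : ∀ A : SpFamObj S n, IsCurveFam A → K901.EtSch.EtLocSch A) :
    ∃ (U : Over S) (x : FibCat.overCat U ⥤ᵇ Curves S n), LocallyOfFinitePresentation U.hom ∧
      AlgSt.RepByAlgSpWith (AlgSp.LocP @Smooth) x ∧ AlgSt.RepByAlgSpWith AlgSp.IsSurjectiveMor x := by
  choose B jB x hx0 hx1 hx2 hx3 using exists_chart' (S := S) (n := n) h4 h3 H2 hE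
  have hsurj := surj_of_objects (isPrestack S n).1 (I := ULift.{u} ℕ) (fun i => (B i.down).base) (fun i => x i.down)
    (fun Ω _ _ t ξ hξ => by
      obtain ⟨A₁, e, N, j, hj⟩ := exists_geom H2 h6 Ω t hξ ξ.property (hE ξ.obj ξ.property)
      have hA₁ : IsCurveFam ((toSpFam S n).obj A₁) := isCurveFam_of_isEmb A₁ hj.1
      obtain ⟨b⟩ := hx3 N A₁ j hj hA₁
      let e' : ξ ⟶ (⟨(toSpFam S n).obj A₁, hA₁⟩ : (Curves S n).obj) := ObjectProperty.homMk e.inv
      exact ⟨⟨N⟩, ⟨e' ≫ b⟩⟩)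
  obtain ⟨X, hX⟩ := K742.Cop.exists_functor (K742.Cop.zar_fppf S) (fun i : ULift.{u} ℕ => x i.down) (isStack S n)
  have h1 : AlgSt.RepByAlgSpWith (AlgSp.LocP @Smooth) X :=
    K742.AtlasU.repByAlgSpWith_sig (isPrestack S n) K597.etLoc_smooth (fun i => by
      obtain ⟨e⟩ := hX i
      exact K735.Rep.repByAlgSpWith_of_iso _ e.symm (hx2 i.down))
  refine ⟨_, X, ?_, h1, (K737.Atlas.surjective_iff (isPrestack S n).1 h1).2 ?_⟩
  · change LocallyOfFinitePresentation (Sigma.desc _)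
    rw [IsZariskiLocalAtSource.iff_of_openCover (P := @LocallyOfFinitePresentation) (sigmaOpenCover _)]
    intro i
    have h2 : (sigmaOpenCover fun i : ULift.{u} ℕ => (B i.down).base.left).f i ≫
        Sigma.desc (fun i : ULift.{u} ℕ => (B i.down).base.hom) = (B i.down).base.hom := Sigma.ι_desc _ _
    exact h2 ▸ hx0 i.down
  · intro p
    obtain ⟨i, t, rfl⟩ := hsurj p
    obtain ⟨e⟩ := hX i
    exact ⟨(K594.Cover.sigι (fun i : ULift.{u} ℕ => (B i.down).base) i).left t, by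
      rw [← K735.PtsSp.ofChart_overMap, K735.PtsSp.ofChart_congr e]⟩

/-- **The stack of curves is algebraic**, from its ingredients. -/
theorem isAlgStack_of (h4 : OpensH1van.{u}) (h3 : EmbScheme.{u}) (H2 : K902.EtSchRed.ProjEtLoc.{u})
    (h6 : ExistsEmb.{u}) (hE : ∀ A : SpFamObj S n, IsCurveFam A → K901.EtSch.EtLocSch A) :
    AlgSt.IsAlgStack Scheme.fppfPrecoverage (Curves S n) := by
  obtain ⟨U, x, -, h1, h2⟩ := exists_atlas (S := S) (n := n) h4 h3 H2 h6 hE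
  exact K742.AtlasU.isAlgStack_of_smooth_chart (isStack S n) x h1 h2

end K740.CurvAlg
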