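import Groth.Agent.CurvSt.K740.EmbBasic
import Groth.Agent.Smoothlim.LimDescend
import Groth.Agent.S0591
import Groth.Agent.S2075
import Groth.Agent.S9189
import Groth.Agent.S9195
import Groth.Agent.S4805

/-!
# Embedded families over cofiltered limits of schemes

`D : I ⥤ Scheme` cofiltered with affine transition morphisms and qcqs members, `c` a limit cone.

* `exists_stage_hom`: a morphism `X ⟶ Y` to a scheme locally of finite presentation over `ℤ` comes from a stage;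
* `eq_stage_hom`: two morphisms from a stage which agree on the limit agree at a further stage;
* `exists_stage_emb`: an embedded family over the limit comes from a stage;
* `iso_stage_emb`: two embedded families over a stage which agree on the limit agree at a further stage.
-/

set_option autoImplicit false
set_option linter.unusedSectionVars false
set_option backward.isDefEq.respectTransparency false
set_option backward.isDefEq.respectTransparency.types false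

universe u

open CategoryTheory CategoryTheory.Limits AlgebraicGeometry

namespace K740.Stage

open Groth.Agent Smoothlim.LimBase K740.Emb

variable {I : Type u} [SmallCategory I] [IsCofiltered I]
    (D : I ⥤ Scheme.{u}) (c : Cone D) (hc : IsLimit c)
    [∀ (i j : I) (f : i ⟶ j), IsAffineHom (D.map f)]

/-- The comparison of a pullback over the limit with the pullback at a stage. -/
noncomputable abbrev toStage {c : Cone D} {i : I} {Xi X : Scheme.{u}} {q₀ : Xi ⟶ D.obj i} {w : X ⟶ Xi} {q : X ⟶ c.pt}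
    (h : IsPullback w q q₀ (c.π.app i)) {k : I} (φ : k ⟶ i) : X ⟶ pullback q₀ (D.map φ) :=
  pullback.lift w (q ≫ c.π.app k) (by rw [Category.assoc, c.w, h.w])

theorem isPullback_toStage {c : Cone D} {i : I} {Xi X : Scheme.{u}} {q₀ : Xi ⟶ D.obj i} {w : X ⟶ Xi} {q : X ⟶ c.pt}
    (h : IsPullback w q q₀ (c.π.app i)) {k : I} (φ : k ⟶ i) :
    IsPullback (toStage D h φ) q (pullback.snd q₀ (D.map φ)) (c.π.app k) := by
  refine IsPullback.of_right ?_ (pullback.lift_snd _ _ _) (IsPullback.of_hasPullback q₀ (D.map φ))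
  rw [pullback.lift_fst, c.w]
  exact h

include hc in
theorem exists_stage_hom [∀ i, CompactSpace (D.obj i)] [∀ i, QuasiSeparatedSpace (D.obj i)] {i : I}
    {Xi X : Scheme.{u}} (q₀ : Xi ⟶ D.obj i) [QuasiCompact q₀] [QuasiSeparated q₀] {w : X ⟶ Xi} {q : X ⟶ c.pt}
    (h : IsPullback w q q₀ (c.π.app i)) {Y : Scheme.{u}} [LocallyOfFinitePresentation (specULiftZIsTerminal.from Y)]
    (j : X ⟶ Y) : ∃ (k : I) (φ : k ⟶ i) (jk : pullback q₀ (D.map φ) ⟶ Y), toStage D h φ ≫ jk = j := by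
  let E : Over i ⥤ Scheme.{u} := pbDiag D i q₀
  let cE : Cone E := pbCone i q₀ c w q h.toCommSq
  have hcE : IsLimit cE := isLimitPbCone i q₀ c hc w q h
  have hE' : ∀ {φ ψ : Over i} (h : φ ⟶ ψ), IsAffineHom (E.map h) :=
    fun h ↦ isAffineHom_pbDiag_map D i q₀ h
  have hXi : CompactSpace Xi := QuasiCompact.compactSpace_of_compactSpace q₀
  have hXi' : QuasiSeparatedSpace Xi := quasiSeparatedSpace_of_quasiSeparated q₀
  have hfst (φ : Over i) : IsAffineHom (pullback.fst q₀ (D.map φ.hom)) :=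
    MorphismProperty.pullback_fst _ _ inferInstance
  have hc1 (φ : Over i) : CompactSpace (E.obj φ) :=
    QuasiCompact.compactSpace_of_compactSpace (pullback.fst q₀ (D.map φ.hom))
  have hc2 (φ : Over i) : QuasiSeparatedSpace (E.obj φ) :=
    quasiSeparatedSpace_of_quasiSeparated (pullback.fst q₀ (D.map φ.hom))
  let t : E ⟶ (Functor.const (Over i)).obj (Spec (CommRingCat.of (ULift.{u} ℤ))) :=
    { app φ := specULiftZIsTerminal.from _
      naturality φ ψ h := specULiftZIsTerminal.hom_ext _ _ }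
  obtain ⟨k, g, hg, -⟩ := Scheme.exists_π_app_comp_eq_of_locallyOfFinitePresentation E t
    (specULiftZIsTerminal.from Y) cE hcE j (by
      ext φ : 2
      exact specULiftZIsTerminal.hom_ext _ _)
  refine ⟨k.left, k.hom, g, ?_⟩
  rw [← hg]
  congr 1

include hc in
theorem eq_stage_hom [∀ i, CompactSpace (D.obj i)] [∀ i, QuasiSeparatedSpace (D.obj i)] {i : I}
    {Xi X : Scheme.{u}} (q₀ : Xi ⟶ D.obj i) [QuasiCompact q₀] [QuasiSeparated q₀] {w : X ⟶ Xi} {q : X ⟶ c.pt}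
    (h : IsPullback w q q₀ (c.π.app i)) {Y : Scheme.{u}} [LocallyOfFiniteType (specULiftZIsTerminal.from Y)]
    (j₁ j₂ : Xi ⟶ Y) (hj : w ≫ j₁ = w ≫ j₂) :
    ∃ (k : I) (φ : k ⟶ i), pullback.fst q₀ (D.map φ) ≫ j₁ = pullback.fst q₀ (D.map φ) ≫ j₂ := by
  let E : Over i ⥤ Scheme.{u} := pbDiag D i q₀
  let cE : Cone E := pbCone i q₀ c w q h.toCommSq
  have hcE : IsLimit cE := isLimitPbCone i q₀ c hc w q h
  have hE' : ∀ {φ ψ : Over i} (h : φ ⟶ ψ), IsAffineHom (E.map h) :=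
    fun h ↦ isAffineHom_pbDiag_map D i q₀ h
  have hXi : CompactSpace Xi := QuasiCompact.compactSpace_of_compactSpace q₀
  have hXi' : QuasiSeparatedSpace Xi := quasiSeparatedSpace_of_quasiSeparated q₀
  have hfst (φ : Over i) : IsAffineHom (pullback.fst q₀ (D.map φ.hom)) :=
    MorphismProperty.pullback_fst _ _ inferInstance
  have hc1 (φ : Over i) : CompactSpace (E.obj φ) :=
    QuasiCompact.compactSpace_of_compactSpace (pullback.fst q₀ (D.map φ.hom))
  have hc2 (φ : Over i) : QuasiSeparatedSpace (E.obj φ) :=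
    quasiSeparatedSpace_of_quasiSeparated (pullback.fst q₀ (D.map φ.hom))
  let t : E ⟶ (Functor.const (Over i)).obj (Spec (CommRingCat.of (ULift.{u} ℤ))) :=
    { app φ := specULiftZIsTerminal.from _
      naturality φ ψ h := specULiftZIsTerminal.hom_ext _ _ }
  let o : Over i := Over.mk (𝟙 i)
  obtain ⟨k, a, ha⟩ := Scheme.exists_hom_comp_eq_comp_of_locallyOfFiniteType E t
    (specULiftZIsTerminal.from Y) cE hcE (i := o) (pullback.fst q₀ (D.map o.hom) ≫ j₁)
    (pullback.fst q₀ (D.map o.hom) ≫ j₂) (specULiftZIsTerminal.hom_ext _ _) (specULiftZIsTerminal.hom_ext _ _) (by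
      have : cE.π.app o ≫ pullback.fst q₀ (D.map o.hom) = w := by simp [cE]
      rw [reassoc_of% this, reassoc_of% this, hj])
  refine ⟨k.left, k.hom, ?_⟩
  have h1 : E.map a ≫ pullback.fst q₀ (D.map o.hom) = pullback.fst q₀ (D.map k.hom) := by simp [E]
  rwa [reassoc_of% h1, reassoc_of% h1] at ha

section desc

variable {P : MorphismProperty Scheme.{u}} [P.IsStableUnderBaseChange]

/-- A property of a morphism to a stage which holds at some further stage holds at all later ones. -/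
theorem snd_of_le {i : I} {X₀ : Scheme.{u}} (q₀ : X₀ ⟶ D.obj i) {k l : I} (φ : k ⟶ i) (ψ : l ⟶ k)
    (h : P (pullback.snd q₀ (D.map φ))) : P (pullback.snd q₀ (D.map (ψ ≫ φ))) := by
  rw [D.map_comp]
  exact Smoothlim.LimBase.snd_comp P q₀ (D.map φ) (D.map ψ) h

/-- Transport of a property of a base change along a morphism of bases. -/
theorem transfer {S S' X₀ Y₀ X₁ Y₁ X₂ Y₂ : Scheme.{u}} {f₀ : X₀ ⟶ Y₀} {g₀ : Y₀ ⟶ S} {t : S' ⟶ S}
    {p₁ : Y₁ ⟶ Y₀} {g₁ : Y₁ ⟶ S'} {r₁ : X₁ ⟶ X₀} {f₁ : X₁ ⟶ Y₁} (h₁ : IsPullback p₁ g₁ g₀ t)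
    (h₁' : IsPullback r₁ f₁ f₀ p₁) {p₂ : Y₂ ⟶ Y₀} {g₂ : Y₂ ⟶ S'} {r₂ : X₂ ⟶ X₀} {f₂ : X₂ ⟶ Y₂}
    (h₂ : p₂ ≫ g₀ = g₂ ≫ t) (h₂' : IsPullback r₂ f₂ f₀ p₂) (hP : P f₁) : P f₂ := by
  have e : h₁.lift p₂ g₂ h₂ ≫ p₁ = p₂ := h₁.lift_fst _ _ _
  have sq : IsPullback (h₁'.lift r₂ (f₂ ≫ h₁.lift p₂ g₂ h₂) (by rw [Category.assoc, e, h₂'.w])) f₂ f₁
      (h₁.lift p₂ g₂ h₂) := by
    refine IsPullback.of_right ?_ (h₁'.lift_snd _ _ _) h₁'
    rw [h₁'.lift_fst, e]
    exact h₂'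
  exact P.of_isPullback sq hP

end desc

section model

open K390.PnSec Groth.Agent.Dix.ProjProper

variable {D c}

/-- A model of `(X, q, j)` at the stage `i`. -/
structure Model {X W : Scheme.{u}} (q : X ⟶ c.pt) (j : X ⟶ W) (i : I) where
  /-- the model -/
  X₀ : Scheme.{u}
  /-- its structure morphism -/
  q₀ : X₀ ⟶ D.obj i
  /-- its morphism to `W` -/
  j₀ : X₀ ⟶ W
  /-- the comparison -/
  w : X ⟶ X₀
  sq : IsPullback w q q₀ (c.π.app i)
  hj : w ≫ j₀ = j
  lfp : LocallyOfFinitePresentation q₀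
  qc : QuasiCompact q₀
  qs : QuasiSeparated q₀

variable {X W : Scheme.{u}} {q : X ⟶ c.pt} {j : X ⟶ W}

/-- The model at a further stage. -/
noncomputable def Model.pull {i : I} (M : Model (D := D) q j i) {k : I} (φ : k ⟶ i) : Model (D := D) q j k where
  X₀ := pullback M.q₀ (D.map φ)
  q₀ := pullback.snd _ _
  j₀ := pullback.fst _ _ ≫ M.j₀
  w := toStage D M.sq φ
  sq := isPullback_toStage D M.sq φ
  hj := by rw [pullback.lift_fst_assoc, M.hj]
  lfp := by
    have := M.lfp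
    exact MorphismProperty.pullback_snd _ _ M.lfp
  qc := by
    have := M.qc
    exact MorphismProperty.pullback_snd _ _ M.qc
  qs := by
    have := M.qs
    exact MorphismProperty.pullback_snd _ _ M.qs

/-- the projection to the original model -/
noncomputable def Model.pr {i : I} (M : Model (D := D) q j i) {k : I} (φ : k ⟶ i) : (M.pull φ).X₀ ⟶ M.X₀ :=
  pullback.fst _ _

theorem Model.pull_sq {i : I} (M : Model (D := D) q j i) {k : I} (φ : k ⟶ i) :
    IsPullback (M.pr φ) (M.pull φ).q₀ M.q₀ (D.map φ) :=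
  IsPullback.of_hasPullback _ _

theorem Model.pull_j {i : I} (M : Model (D := D) q j i) {k : I} (φ : k ⟶ i) :
    (M.pull φ).j₀ = M.pr φ ≫ M.j₀ := rfl

include hc in
/-- Models exist. -/
theorem exists_model [∀ i, CompactSpace (D.obj i)] [∀ i, QuasiSeparatedSpace (D.obj i)]
    [LocallyOfFinitePresentation (specULiftZIsTerminal.from W)]
    (q : X ⟶ c.pt) (j : X ⟶ W) [LocallyOfFinitePresentation q] [QuasiCompact q] [QuasiSeparated q] :
    ∃ i, Nonempty (Model (D := D) q j i) := by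
  obtain ⟨i, Xi, fi, g, h1, h2, h3, sq⟩ := Groth.Agent.S0591.result D c hc X q
  obtain ⟨k, φ, jk, hjk⟩ := exists_stage_hom D c hc fi sq j
  exact ⟨k, ⟨{ X₀ := pullback fi (D.map φ)
               q₀ := pullback.snd _ _
               j₀ := jk
               w := toStage D sq φ
               sq := isPullback_toStage D sq φ
               hj := hjk
               lfp := MorphismProperty.pullback_snd _ _ h1
               qc := MorphismProperty.pullback_snd _ _ h2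
               qs := MorphismProperty.pullback_snd _ _ h3 }⟩⟩

include hc in
theorem Model.exists_closed {i : I} [CompactSpace (D.obj i)] [QuasiSeparatedSpace (D.obj i)]
    (M : Model (D := D) q j i) (K : ℕ) (s : W ⟶ PZ K) (h : IsClosedImmersion (liftP (j ≫ s) q)) :
    ∃ (k : I) (φ : k ⟶ i), IsClosedImmersion (liftP ((M.pull φ).j₀ ≫ s) (M.pull φ).q₀) := by
  have h1 := M.lfp
  have h2 := M.qc
  have h3 := M.qs
  have c1 : CompactSpace M.X₀ := QuasiCompact.compactSpace_of_compactSpace M.q₀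
  have c2 : QuasiSeparatedSpace M.X₀ := quasiSeparatedSpace_of_quasiSeparated M.q₀
  have c3 : CompactSpace (CohB1.ProjSpaceOver K (D.obj i)) :=
    QuasiCompact.compactSpace_of_compactSpace (CohB1.ProjSpaceOver.toBase K (D.obj i))
  have c4 : QuasiSeparatedSpace (CohB1.ProjSpaceOver K (D.obj i)) :=
    quasiSeparatedSpace_of_quasiSeparated (CohB1.ProjSpaceOver.toBase K (D.obj i))
  have h4 : LocallyOfFiniteType (liftP (M.j₀ ≫ s) M.q₀) := by
    have : LocallyOfFiniteType (liftP (M.j₀ ≫ s) M.q₀ ≫ CohB1.ProjSpaceOver.toBase K (D.obj i)) := by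
      rw [liftP_toBase]
      infer_instance
    exact locallyOfFiniteType_of_comp _ (CohB1.ProjSpaceOver.toBase K (D.obj i))
  have hX : IsPullback M.w (liftP (j ≫ s) q) (liftP (M.j₀ ≫ s) M.q₀) (mapBase K (c.π.app i)) := by
    have := liftP_bc M.sq (M.j₀ ≫ s)
    rwa [reassoc_of% M.hj] at this
  obtain ⟨k, φ, Xi, Yi, fi, gi, pY, pX, hY', hX', hcl⟩ := Groth.Agent.S9189.result D c hc i
    (liftP (M.j₀ ≫ s) M.q₀) (CohB1.ProjSpaceOver.toBase K (D.obj i)) (liftP (j ≫ s) q)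
    (CohB1.ProjSpaceOver.toBase K c.pt) (mapBase K (c.π.app i)) M.w (isPullback_mapBase K _) hX
  refine ⟨k, φ, ?_⟩
  have h5 := liftP_bc (M.pull_sq φ) (M.j₀ ≫ s)
  rw [← Category.assoc] at h5
  exact transfer (P := @IsClosedImmersion) hY' hX' (mapBase_toBase K _) h5 hcl

theorem Model.closed_pull {i : I} (M : Model (D := D) q j i) (K : ℕ) (s : W ⟶ PZ K)
    (h : IsClosedImmersion (liftP (M.j₀ ≫ s) M.q₀)) {k : I} (φ : k ⟶ i) :
    IsClosedImmersion (liftP ((M.pull φ).j₀ ≫ s) (M.pull φ).q₀) := by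
  have h5 := liftP_bc (M.pull_sq φ) (M.j₀ ≫ s)
  rw [← Category.assoc] at h5
  exact MorphismProperty.of_isPullback (P := @IsClosedImmersion) h5 h

include hc in
theorem Model.exists_flat {i : I} [CompactSpace (D.obj i)] [QuasiSeparatedSpace (D.obj i)]
    (M : Model (D := D) q j i) (h : Flat q) :
    ∃ (k : I) (φ : k ⟶ i), Flat (M.pull φ).q₀ := by
  have h1 := M.lfp
  have h2 := M.qc
  have h3 := M.qs
  have c1 : CompactSpace M.X₀ := QuasiCompact.compactSpace_of_compactSpace M.q₀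
  have c2 : QuasiSeparatedSpace M.X₀ := quasiSeparatedSpace_of_quasiSeparated M.q₀
  obtain ⟨k, φ, Xi, Yi, fi, gi, pY, pX, hY', hX', hcl⟩ := Groth.Agent.S2075.result D c hc i
    M.q₀ (𝟙 _) q (𝟙 _) (c.π.app i) M.w (IsPullback.of_vert_isIso ⟨by simp⟩) M.sq
  exact ⟨k, φ, transfer (P := @Flat) (g₂ := 𝟙 _) hY' hX' (by simp) (M.pull_sq φ) hcl⟩

theorem Model.flat_pull {i : I} (M : Model (D := D) q j i) (h : Flat M.q₀) {k : I} (φ : k ⟶ i) :
    Flat (M.pull φ).q₀ :=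
  MorphismProperty.of_isPullback (P := @Flat) (M.pull_sq φ) h

include hc in
theorem Model.exists_dim {i : I} [CompactSpace (D.obj i)] [QuasiSeparatedSpace (D.obj i)]
    (M : Model (D := D) q j i) (h : ∀ x : X, FlatMor.fibreDimAt q x ≤ 1) :
    ∃ (k : I) (φ : k ⟶ i), ∀ x, FlatMor.fibreDimAt (M.pull φ).q₀ x ≤ 1 := by
  have h1 := M.lfp
  have h2 := M.qc
  have h3 := M.qs
  have c1 : CompactSpace M.X₀ := QuasiCompact.compactSpace_of_compactSpace M.q₀
  have c2 : QuasiSeparatedSpace M.X₀ := quasiSeparatedSpace_of_quasiSeparated M.q₀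
  obtain ⟨k, φ, Xi, Yi, fi, gi, pY, pX, hY', hX', hd⟩ := Groth.Agent.S9195.result D c hc i
    M.q₀ (𝟙 _) 1 q (𝟙 _) (c.π.app i) M.w (IsPullback.of_vert_isIso ⟨by simp⟩) M.sq (by exact_mod_cast h)
  refine ⟨k, φ, ?_⟩
  have e : hY'.lift (D.map φ) (𝟙 _) (by simp) ≫ pY = D.map φ := hY'.lift_fst _ _ _
  have sq : IsPullback (hX'.lift (M.pr φ) ((M.pull φ).q₀ ≫ hY'.lift (D.map φ) (𝟙 _) (by simp))
      (by rw [Category.assoc, e]; exact (M.pull_sq φ).w)) (M.pull φ).q₀ fi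
      (hY'.lift (D.map φ) (𝟙 _) (by simp)) := by
    refine IsPullback.of_right ?_ (hX'.lift_snd _ _ _) hX'
    rw [hX'.lift_fst, e]
    exact M.pull_sq φ
  have : LocallyOfFiniteType fi := MorphismProperty.of_isPullback (P := @LocallyOfFiniteType) hX' inferInstance
  exact fibreDimAt_le_bc sq (by exact_mod_cast hd)

theorem Model.dim_pull {i : I} (M : Model (D := D) q j i) (h : ∀ x, FlatMor.fibreDimAt M.q₀ x ≤ 1) {k : I}
    (φ : k ⟶ i) : ∀ x, FlatMor.fibreDimAt (M.pull φ).q₀ x ≤ 1 := by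
  have := M.lfp
  exact fibreDimAt_le_bc (M.pull_sq φ) h

include hc in
/-- An embedded family over the limit comes from a stage. -/
theorem exists_stage_emb [∀ i, CompactSpace (D.obj i)] [∀ i, QuasiSeparatedSpace (D.obj i)]
    [LocallyOfFinitePresentation (specULiftZIsTerminal.from W)]
    (q : X ⟶ c.pt) (j : X ⟶ W) (K : ℕ) (s : W ⟶ PZ K) (h : IsEmb K q (j ≫ s)) :
    ∃ (i : I) (M : Model (D := D) q j i), IsEmb K M.q₀ (M.j₀ ≫ s) := by
  have h1 := h.lfp
  have h2 := h.isProper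
  obtain ⟨i, ⟨M⟩⟩ := exists_model hc q j
  obtain ⟨i₁, φ₁, hc₁⟩ := M.exists_closed hc K s h.closed
  obtain ⟨i₂, φ₂, hf₂⟩ := (M.pull φ₁).exists_flat hc h.flat
  obtain ⟨i₃, φ₃, hd₃⟩ := ((M.pull φ₁).pull φ₂).exists_dim hc h.dim
  refine ⟨i₃, ((M.pull φ₁).pull φ₂).pull φ₃, ?_, ?_, Model.lfp _, hd₃⟩
  · exact Model.closed_pull _ K s (Model.closed_pull _ K s hc₁ _) _
  · exact Model.flat_pull _ hf₂ _

theorem isPullback_of_mono {A B B' : Scheme.{u}} {l : A ⟶ B} {f : B ⟶ B'} {w : A ⟶ B'} [Mono f] (h : l ≫ f = w) :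
    IsPullback l (𝟙 A) f w :=
  ⟨⟨by rw [h, Category.id_comp]⟩, ⟨PullbackCone.IsLimit.mk _ (fun s => s.snd)
    (fun s => by rw [← cancel_mono f, Category.assoc, h]; exact s.condition.symm)
    (fun s => Category.comp_id _) (fun s m _ h2 => by rwa [Category.comp_id] at h2)⟩⟩

/-- a morphism of models -/
def Model.Le {i : I} (M N : Model (D := D) q j i) : Prop :=
  ∃ a : M.X₀ ⟶ N.X₀, a ≫ N.j₀ = M.j₀ ∧ a ≫ N.q₀ = M.q₀

theorem Model.Le.pull {i : I} {M N : Model (D := D) q j i} (h : M.Le N) {k : I} (φ : k ⟶ i) :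
    (M.pull φ).Le (N.pull φ) := by
  obtain ⟨a, h1, h2⟩ := h
  refine ⟨(N.pull_sq φ).lift (M.pr φ ≫ a) (M.pull φ).q₀ ?_, ?_, ?_⟩
  · rw [Category.assoc, h2, (M.pull_sq φ).w]
  · rw [N.pull_j, (N.pull_sq φ).lift_fst_assoc, Category.assoc, h1, M.pull_j]
  · exact (N.pull_sq φ).lift_snd _ _ _

theorem Model.pull_comp_le {i : I} (M : Model (D := D) q j i) {k l : I} (φ : k ⟶ i) (ψ : l ⟶ k) :
    (M.pull (ψ ≫ φ)).Le ((M.pull φ).pull ψ) ∧ ((M.pull φ).pull ψ).Le (M.pull (ψ ≫ φ)) := by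
  have e := D.map_comp ψ φ
  constructor
  · refine ⟨((M.pull φ).pull_sq ψ).lift ((M.pull_sq φ).lift (M.pr (ψ ≫ φ)) ((M.pull (ψ ≫ φ)).q₀ ≫ D.map ψ) ?_)
      (M.pull (ψ ≫ φ)).q₀ ?_, ?_, ?_⟩
    · rw [(M.pull_sq (ψ ≫ φ)).w, Category.assoc, ← e]
    · exact (M.pull_sq φ).lift_snd _ _ _
    · rw [Model.pull_j, M.pull_j, IsPullback.lift_fst_assoc, IsPullback.lift_fst_assoc, M.pull_j]
    · exact ((M.pull φ).pull_sq ψ).lift_snd _ _ _
  · refine ⟨(M.pull_sq (ψ ≫ φ)).lift ((M.pull φ).pr ψ ≫ M.pr φ) ((M.pull φ).pull ψ).q₀ ?_, ?_, ?_⟩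
    · rw [Category.assoc, (M.pull_sq φ).w, e]
      exact ((M.pull φ).pull_sq ψ).w_assoc _
    · rw [M.pull_j, IsPullback.lift_fst_assoc, Category.assoc, Model.pull_j, M.pull_j]
    · exact (M.pull_sq (ψ ≫ φ)).lift_snd _ _ _

theorem Model.Le.trans {i : I} {M N P : Model (D := D) q j i} (h : M.Le N) (h' : N.Le P) : M.Le P := by
  obtain ⟨a, h1, h2⟩ := h
  obtain ⟨b, h3, h4⟩ := h'
  exact ⟨a ≫ b, by rw [Category.assoc, h3, h1], by rw [Category.assoc, h4, h2]⟩

include hc in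
theorem Model.exists_le {i : I} [CompactSpace (D.obj i)] [QuasiSeparatedSpace (D.obj i)]
    [IsLocallyNoetherian (D.obj i)]
    (M N : Model (D := D) q j i) (K : ℕ) (s : W ⟶ PZ K) [Mono s] (hM : IsEmb K M.q₀ (M.j₀ ≫ s))
    (hN : IsEmb K N.q₀ (N.j₀ ≫ s)) : ∃ (k : I) (φ : k ⟶ i), (M.pull φ).Le (N.pull φ) := by
  have h1 := M.lfp
  have h2 := M.qc
  have h3 := M.qs
  have c1 : CompactSpace M.X₀ := QuasiCompact.compactSpace_of_compactSpace M.q₀
  have c2 : QuasiSeparatedSpace M.X₀ := quasiSeparatedSpace_of_quasiSeparated M.q₀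
  have hX₀ : IsLocallyNoetherian M.X₀ := LocallyOfFiniteType.isLocallyNoetherian M.q₀
  have hcM := hM.closed
  have hcN := hN.closed
  let F₀ := pullback.fst (liftP (M.j₀ ≫ s) M.q₀) (liftP (N.j₀ ≫ s) N.q₀)
  let G₀ := pullback.snd (liftP (M.j₀ ≫ s) M.q₀) (liftP (N.j₀ ≫ s) N.q₀)
  have hFG : F₀ ≫ liftP (M.j₀ ≫ s) M.q₀ = G₀ ≫ liftP (N.j₀ ≫ s) N.q₀ := pullback.condition
  have hFG1 : F₀ ≫ M.j₀ = G₀ ≫ N.j₀ := by
    rw [← cancel_mono s]
    have := congrArg (· ≫ toZ K _) hFG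
    simpa only [Category.assoc, liftP_toZ] using this
  have hFG2 : F₀ ≫ M.q₀ = G₀ ≫ N.q₀ := by
    have := congrArg (· ≫ CohB1.ProjSpaceOver.toBase K _) hFG
    simpa only [Category.assoc, liftP_toBase] using this
  have hF : IsClosedImmersion F₀ := inferInstance
  have hFl : LocallyOfFinitePresentation F₀ := lfp_of_noeth F₀
  let l : X ⟶ pullback (liftP (M.j₀ ≫ s) M.q₀) (liftP (N.j₀ ≫ s) N.q₀) := pullback.lift M.w N.w (by
    apply hom_ext_over
    · rw [Category.assoc, Category.assoc, liftP_toZ, liftP_toZ, reassoc_of% M.hj, reassoc_of% N.hj]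
    · rw [Category.assoc, Category.assoc, liftP_toBase, liftP_toBase, M.sq.w, N.sq.w])
  have hl : l ≫ F₀ = M.w := pullback.lift_fst _ _ _
  obtain ⟨k, φ, Xj, Yj, fj, gj, pY, pX, hY', hX', hi⟩ := Groth.Agent.S4805.result D c hc i
    F₀ M.q₀ (𝟙 X) q M.w l M.sq (isPullback_of_mono hl)
  refine ⟨k, φ, ?_⟩
  have hw := (M.pull_sq φ).w
  let b : (M.pull φ).X₀ ⟶ Yj := hY'.lift (M.pr φ) (M.pull φ).q₀ hw
  have hb1 : b ≫ pY = M.pr φ := hY'.lift_fst _ _ _
  have hb2 : b ≫ gj = (M.pull φ).q₀ := hY'.lift_snd _ _ _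
  have hbF : b ≫ inv fj ≫ pX ≫ F₀ = M.pr φ := by
    rw [hX'.w, IsIso.inv_hom_id_assoc, hb1]
  refine ⟨(N.pull_sq φ).lift (b ≫ inv fj ≫ pX ≫ G₀) (M.pull φ).q₀ ?_, ?_, ?_⟩
  · rw [← hw, ← hbF]
    simp only [Category.assoc]
    rw [← hFG2]
  · rw [N.pull_j, (N.pull_sq φ).lift_fst_assoc, M.pull_j, ← hbF]
    simp only [Category.assoc]
    rw [← hFG1]
  · exact (N.pull_sq φ).lift_snd _ _ _

include hc in
/-- Two embedded models agree at some further stage. -/
theorem iso_stage_emb [∀ i, CompactSpace (D.obj i)] [∀ i, QuasiSeparatedSpace (D.obj i)]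
    [∀ i, IsLocallyNoetherian (D.obj i)] {i : I} (M N : Model (D := D) q j i) (K : ℕ) (s : W ⟶ PZ K) [Mono s]
    (hM : IsEmb K M.q₀ (M.j₀ ≫ s)) (hN : IsEmb K N.q₀ (N.j₀ ≫ s)) :
    ∃ (k : I) (φ : k ⟶ i), (M.pull φ).Le (N.pull φ) ∧ (N.pull φ).Le (M.pull φ) := by
  obtain ⟨k, φ, h⟩ := M.exists_le hc N K s hM hN
  have hM' : IsEmb K (M.pull φ).q₀ ((M.pull φ).j₀ ≫ s) := by
    have := hM.bc (M.pull_sq φ)
    rwa [← Category.assoc] at this
  have hN' : IsEmb K (N.pull φ).q₀ ((N.pull φ).j₀ ≫ s) := by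
    have := hN.bc (N.pull_sq φ)
    rwa [← Category.assoc] at this
  obtain ⟨l, ψ, h'⟩ := (N.pull φ).exists_le hc (M.pull φ) K s hN' hM'
  refine ⟨l, ψ ≫ φ, ?_, ?_⟩
  · exact ((M.pull_comp_le φ ψ).1.trans (h.pull ψ)).trans (N.pull_comp_le φ ψ).2
  · exact ((N.pull_comp_le φ ψ).1.trans h').trans (M.pull_comp_le φ ψ).2

end model

end K740.Stage
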