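import Groth.Agent.CurvSt.K740.HilbLN
import Groth.Agent.CurvSt.K740.Stage
import Groth.Agent.Flat2D.SpecFGLimit

/-!
# The Hilbert scheme of curves in a projective scheme over the integers
-/

set_option autoImplicit false
set_option linter.unusedSectionVars false
set_option backward.isDefEq.respectTransparency false
set_option backward.isDefEq.respectTransparency.types false

universe u

open CategoryTheory CategoryTheory.Limits AlgebraicGeometry

namespace K740.Hilb

open K740.Emb K740.Stage K390.PnSec Groth.Agent.Dix.ProjProper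

variable {W : Scheme.{u}} (K : ℕ) (s : W ⟶ PZ K)

/-- The universal property at `T`. -/
def UPAt {H Z : Scheme.{u}} (qH : Z ⟶ H) (jH : Z ⟶ W) (T : Scheme.{u}) : Prop :=
  ∀ {X : Scheme.{u}} (q : X ⟶ T) (j : X ⟶ W), IsEmb K q (j ≫ s) →
    ∃! g : T ⟶ H, ∃ i : X ⟶ Z, IsPullback i q qH g ∧ i ≫ jH = j

section

variable {H Z : Scheme.{u}} {qH : Z ⟶ H} {jH : Z ⟶ W}
  {I : Type u} [SmallCategory I] [IsCofiltered I]
  {D : I ⥤ Scheme.{u}} {c : Cone D} (hc : IsLimit c)
  [∀ (i j : I) (f : i ⟶ j), IsAffineHom (D.map f)]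

/-- The model of the pullback of the universal family along a morphism from a stage. -/
noncomputable def modelOf (hqH : LocallyOfFinitePresentation qH) (hqp : IsProper qH)
    {X : Scheme.{u}} {q : X ⟶ c.pt} {j : X ⟶ W} {i : I} (g : D.obj i ⟶ H) (a : X ⟶ Z)
    (sq : IsPullback a q qH (c.π.app i ≫ g)) (ha : a ≫ jH = j) : Model (D := D) q j i where
  X₀ := pullback qH g
  q₀ := pullback.snd _ _
  j₀ := pullback.fst _ _ ≫ jH
  w := pullback.lift a (q ≫ c.π.app i) (by rw [sq.w, Category.assoc])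
  sq := by
    refine IsPullback.of_right (h₁₂ := pullback.fst qH g) (v₁₃ := qH) (h₂₂ := g) ?_ (pullback.lift_snd _ _ _)
      (IsPullback.of_hasPullback _ _)
    rw [pullback.lift_fst]
    exact sq
  hj := by rw [pullback.lift_fst_assoc, ha]
  lfp := MorphismProperty.pullback_snd _ _ hqH
  qc := MorphismProperty.pullback_snd _ _ inferInstance
  qs := MorphismProperty.pullback_snd _ _ inferInstance

include hc in
theorem upAt_limit [∀ i, CompactSpace (D.obj i)] [∀ i, QuasiSeparatedSpace (D.obj i)]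
    [∀ i, IsLocallyNoetherian (D.obj i)] [Mono s] [LocallyOfFinitePresentation (specULiftZIsTerminal.from W)]
    [LocallyOfFinitePresentation (specULiftZIsTerminal.from H)] (hZ : IsEmb K qH (jH ≫ s))
    (hUP : ∀ i, UPAt K s qH jH (D.obj i)) : UPAt K s qH jH c.pt := by
  have hqH := hZ.lfp
  have hqp := hZ.isProper
  intro X q j hq
  obtain ⟨i, M, hM⟩ := exists_stage_emb hc q j K s hq
  obtain ⟨g₀, ⟨i₀, hi₀, hi₀j⟩, -⟩ := hUP i M.q₀ M.j₀ hM
  refine existsUnique_of_exists_of_unique ⟨c.π.app i ≫ g₀, M.w ≫ i₀, M.sq.paste_horiz hi₀, ?_⟩ ?_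
  · rw [Category.assoc, hi₀j, M.hj]
  · rintro g g' ⟨a, ha, haj⟩ ⟨a', ha', haj'⟩
    let t : D ⟶ (Functor.const I).obj (Spec (CommRingCat.of (ULift.{u} ℤ))) :=
      { app φ := specULiftZIsTerminal.from _
        naturality φ ψ h := specULiftZIsTerminal.hom_ext _ _ }
    obtain ⟨k, gk, hgk, -⟩ := Scheme.exists_π_app_comp_eq_of_locallyOfFinitePresentation D t
      (specULiftZIsTerminal.from H) c hc g (by ext φ : 2; exact specULiftZIsTerminal.hom_ext _ _)
    obtain ⟨k', gk', hgk', -⟩ := Scheme.exists_π_app_comp_eq_of_locallyOfFinitePresentation D t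
      (specULiftZIsTerminal.from H) c hc g' (by ext φ : 2; exact specULiftZIsTerminal.hom_ext _ _)
    let m := IsCofiltered.min k k'
    let gm := D.map (IsCofiltered.minToLeft k k') ≫ gk
    let gm' := D.map (IsCofiltered.minToRight k k') ≫ gk'
    have hgm : c.π.app m ≫ gm = g := by rw [← hgk, ← Category.assoc, c.w]
    have hgm' : c.π.app m ≫ gm' = g' := by rw [← hgk', ← Category.assoc, c.w]
    rw [← hgm] at ha
    rw [← hgm'] at ha'
    let M := modelOf hqH hqp gm a ha haj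
    let N := modelOf hqH hqp gm' a' ha' haj'
    have hM : IsEmb K M.q₀ (M.j₀ ≫ s) := by
      have := hZ.bc (IsPullback.of_hasPullback qH gm)
      rwa [← Category.assoc] at this
    have hN : IsEmb K N.q₀ (N.j₀ ≫ s) := by
      have := hZ.bc (IsPullback.of_hasPullback qH gm')
      rwa [← Category.assoc] at this
    obtain ⟨l, φ, ⟨b, hb1, hb2⟩, ⟨b', hb1', hb2'⟩⟩ := iso_stage_emb hc M N K s hM hN
    have hM' : IsEmb K (M.pull φ).q₀ ((M.pull φ).j₀ ≫ s) := by
      have := hM.bc (M.pull_sq φ)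
      rwa [← Category.assoc] at this
    have hN' : IsEmb K (N.pull φ).q₀ ((N.pull φ).j₀ ≫ s) := by
      have := hN.bc (N.pull_sq φ)
      rwa [← Category.assoc] at this
    let e : (M.pull φ).X₀ ≅ (N.pull φ).X₀ :=
      { hom := b
        inv := b'
        hom_inv_id := hom_ext_of_mono hM'.mono (by
          rw [← Category.assoc, ← Category.assoc, Category.assoc b b', hb1', hb1, Category.id_comp]) (by
          rw [Category.assoc, hb2', hb2, Category.id_comp])
        inv_hom_id := hom_ext_of_mono hN'.mono (by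
          rw [← Category.assoc, ← Category.assoc, Category.assoc b' b, hb1, hb1', Category.id_comp]) (by
          rw [Category.assoc, hb2, hb2', Category.id_comp]) }
    have key : D.map φ ≫ gm = D.map φ ≫ gm' := by
      refine (hUP l (M.pull φ).q₀ (M.pull φ).j₀ hM').unique
        ⟨M.pr φ ≫ pullback.fst qH gm, (M.pull_sq φ).paste_horiz (IsPullback.of_hasPullback _ _), ?_⟩
        ⟨b ≫ N.pr φ ≫ pullback.fst qH gm', ?_, ?_⟩
      · rw [Category.assoc]
        rfl
      · have h1 := (N.pull_sq φ).paste_horiz (IsPullback.of_hasPullback qH gm')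
        refine h1.of_iso e.symm (Iso.refl _) (Iso.refl _) (Iso.refl _) ?_ ?_ ?_ ?_
        · change _ ≫ 𝟙 _ = b' ≫ b ≫ _
          have : b' ≫ b = 𝟙 _ := e.inv_hom_id
          rw [reassoc_of% this, Category.comp_id]
        · change _ ≫ 𝟙 _ = b' ≫ _
          rw [hb2', Category.comp_id]
        · simp
        · simp
      · rw [Category.assoc, Category.assoc, ← hb1]
        rfl
    rw [← hgm, ← hgm', ← c.w φ, Category.assoc, Category.assoc, key]

end

section glue

variable {H Z : Scheme.{u}} {qH : Z ⟶ H} {jH : Z ⟶ W}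

theorem isEmb_bc {X T X' T' : Scheme.{u}} {q : X ⟶ T} {j : X ⟶ W} (h : IsEmb K q (j ≫ s)) {q' : X' ⟶ T'} {a : X' ⟶ X}
    {t : T' ⟶ T} (sq : IsPullback a q' q t) : IsEmb K q' ((a ≫ j) ≫ s) := by
  rw [Category.assoc]
  exact h.bc sq

/-- Uniqueness of the classifying morphism is local. -/
theorem unique_of_cover {T : Scheme.{u}} (𝒰 : T.OpenCover) (h : ∀ i, UPAt K s qH jH (𝒰.X i)) {X : Scheme.{u}}
    (q : X ⟶ T) (j : X ⟶ W) (hq : IsEmb K q (j ≫ s)) {g g' : T ⟶ H} {a a' : X ⟶ Z} (ha : IsPullback a q qH g)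
    (haj : a ≫ jH = j) (ha' : IsPullback a' q qH g') (haj' : a' ≫ jH = j) : g = g' := by
  refine 𝒰.hom_ext _ _ fun i => ?_
  have sq : IsPullback (pullback.fst q (𝒰.f i)) (pullback.snd q (𝒰.f i)) q (𝒰.f i) := IsPullback.of_hasPullback _ _
  refine (h i (pullback.snd q (𝒰.f i)) (pullback.fst q (𝒰.f i) ≫ j) (isEmb_bc K s hq sq)).unique
    ⟨_, sq.paste_horiz ha, ?_⟩ ⟨_, sq.paste_horiz ha', ?_⟩
  · rw [Category.assoc, haj]
  · rw [Category.assoc, haj']

theorem upAt_of_cover [Mono s] (hZ : IsEmb K qH (jH ≫ s)) {T : Scheme.{u}} (𝒰 : T.OpenCover)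
    (h : ∀ i, UPAt K s qH jH (𝒰.X i))
    (h2 : ∀ (i i' : 𝒰.I₀), ∃ 𝒱 : (pullback (𝒰.f i) (𝒰.f i')).OpenCover, ∀ k, UPAt K s qH jH (𝒱.X k)) :
    UPAt K s qH jH T := by
  intro X q j hq
  refine existsUnique_of_exists_of_unique ?_ ?_
  swap
  · rintro g g' ⟨a, ha, haj⟩ ⟨a', ha', haj'⟩
    exact unique_of_cover K s 𝒰 h q j hq ha haj ha' haj'
  have sq (i) : IsPullback (pullback.fst q (𝒰.f i)) (pullback.snd q (𝒰.f i)) q (𝒰.f i) := IsPullback.of_hasPullback _ _
  choose g hg hu using fun i => h i (pullback.snd q (𝒰.f i)) (pullback.fst q (𝒰.f i) ≫ j) (isEmb_bc K s hq (sq i))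
  choose a ha haj using hg
  have hgg (i i' : 𝒰.I₀) : pullback.fst (𝒰.f i) (𝒰.f i') ≫ g i = pullback.snd (𝒰.f i) (𝒰.f i') ≫ g i' := by
    obtain ⟨𝒱, h𝒱⟩ := h2 i i'
    have s1 : IsPullback (pullback.fst q (pullback.fst (𝒰.f i) (𝒰.f i') ≫ 𝒰.f i))
        (pullback.snd q (pullback.fst (𝒰.f i) (𝒰.f i') ≫ 𝒰.f i)) q (pullback.fst (𝒰.f i) (𝒰.f i') ≫ 𝒰.f i) :=
      IsPullback.of_hasPullback _ _
    have s2 : IsPullback (pullback.fst q (pullback.fst (𝒰.f i) (𝒰.f i') ≫ 𝒰.f i))
        (pullback.snd q (pullback.fst (𝒰.f i) (𝒰.f i') ≫ 𝒰.f i)) q (pullback.snd (𝒰.f i) (𝒰.f i') ≫ 𝒰.f i') := by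
      have h3 := pullback.condition (f := 𝒰.f i) (g := 𝒰.f i')
      have h4 : IsPullback (pullback.fst q (pullback.fst (𝒰.f i) (𝒰.f i') ≫ 𝒰.f i))
        (pullback.snd q (pullback.fst (𝒰.f i) (𝒰.f i') ≫ 𝒰.f i)) q (pullback.fst (𝒰.f i) (𝒰.f i') ≫ 𝒰.f i) := s1
      exact ⟨⟨by rw [← h3]; exact h4.w⟩, ⟨by
        have := h4.isLimit
        exact PullbackCone.IsLimit.mk _ (fun t => h4.lift t.fst t.snd (by rw [t.condition, h3]))
          (fun t => h4.lift_fst _ _ _) (fun t => h4.lift_snd _ _ _)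
          (fun t m h5 h6 => h4.hom_ext (by rw [h5, h4.lift_fst]) (by rw [h6, h4.lift_snd]))⟩⟩
    have l1 := IsPullback.of_right' s1 (sq i)
    have l2 := IsPullback.of_right' s2 (sq i')
    refine unique_of_cover K s 𝒱 h𝒱 (pullback.snd q (pullback.fst (𝒰.f i) (𝒰.f i') ≫ 𝒰.f i))
      (pullback.fst q (pullback.fst (𝒰.f i) (𝒰.f i') ≫ 𝒰.f i) ≫ j) (isEmb_bc K s hq s1)
      (l1.paste_horiz (ha i)) ?_ (l2.paste_horiz (ha i')) ?_
    · rw [Category.assoc, haj, IsPullback.lift_fst_assoc]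
    · rw [Category.assoc, haj, IsPullback.lift_fst_assoc]
  let G : T ⟶ H := 𝒰.glueMorphisms g hgg
  have hG (i) : 𝒰.f i ≫ G = g i := 𝒰.ι_glueMorphisms _ _ _
  -- the pulled back family
  have sG : IsPullback (pullback.fst qH G) (pullback.snd qH G) qH G := IsPullback.of_hasPullback _ _
  have hGe : IsEmb K (pullback.snd qH G) ((pullback.fst qH G ≫ jH) ≫ s) := isEmb_bc K s hZ sG
  obtain ⟨b, hb1, hb2⟩ := exists_hom_of_local (q := q) (j := j ≫ s) (q' := pullback.snd qH G)
    (j' := (pullback.fst qH G ≫ jH) ≫ s) hGe.mono (𝒰.pullback₁ q) (fun i => by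
      refine ⟨pullback.lift (a i) (pullback.snd q (𝒰.f i) ≫ 𝒰.f i) ?_, ?_, ?_⟩
      · rw [(ha i).w, Category.assoc, hG]
      · rw [← Category.assoc, pullback.lift_fst_assoc, haj, Category.assoc]
        rfl
      · rw [pullback.lift_snd]
        exact (sq i).w.symm)
  obtain ⟨b', hb1', hb2'⟩ := exists_hom_of_local (q := pullback.snd qH G) (j := (pullback.fst qH G ≫ jH) ≫ s)
    (q' := q) (j' := j ≫ s) hq.mono (𝒰.pullback₁ (pullback.snd qH G)) (fun i => by
      refine ⟨(ha i).lift (pullback.fst (pullback.snd qH G) (𝒰.f i) ≫ pullback.fst qH G)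
        (pullback.snd (pullback.snd qH G) (𝒰.f i)) ?_ ≫ pullback.fst q (𝒰.f i), ?_, ?_⟩
      · rw [Category.assoc, sG.w, ← hG, pullback.condition_assoc]
      · have h5 := (ha i).lift_fst (pullback.fst (pullback.snd qH G) (𝒰.f i) ≫ pullback.fst qH G)
          (pullback.snd (pullback.snd qH G) (𝒰.f i)) (by rw [Category.assoc, sG.w, ← hG, pullback.condition_assoc])
        have h6 := haj i
        calc _ = ((ha i).lift (pullback.fst (pullback.snd qH G) (𝒰.f i) ≫ pullback.fst qH G)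
            (pullback.snd (pullback.snd qH G) (𝒰.f i)) (by rw [Category.assoc, sG.w, ← hG, pullback.condition_assoc]) ≫
              (pullback.fst q (𝒰.f i) ≫ j)) ≫ s := by simp only [Category.assoc]
          _ = _ := by
              rw [← h6, reassoc_of% h5]
              simp only [Category.assoc]
              rfl
      · rw [Category.assoc, (sq i).w, IsPullback.lift_snd_assoc]
        exact pullback.condition.symm)
  have hbb' : b ≫ b' = 𝟙 X := hom_ext_of_mono hq.mono (by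
    rw [Category.assoc, hb1', hb1, Category.id_comp]) (by rw [Category.assoc, hb2', hb2, Category.id_comp])
  have hb'b : b' ≫ b = 𝟙 _ := hom_ext_of_mono hGe.mono (by
    rw [Category.assoc, hb1, hb1', Category.id_comp]) (by rw [Category.assoc, hb2, hb2', Category.id_comp])
  let e : X ≅ pullback qH G := ⟨b, b', hbb', hb'b⟩
  refine ⟨G, b ≫ pullback.fst qH G, ?_, ?_⟩
  · refine sG.of_iso e.symm (Iso.refl _) (Iso.refl _) (Iso.refl _) ?_ ?_ ?_ ?_
    · change _ ≫ 𝟙 _ = b' ≫ b ≫ _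
      rw [reassoc_of% hb'b, Category.comp_id]
    · change _ ≫ 𝟙 _ = b' ≫ _
      rw [hb2', Category.comp_id]
    · simp
    · simp
  · rw [← cancel_mono s, ← hb1]
    simp only [Category.assoc]

end glue

/-- The Hilbert scheme of curves in a projective scheme over the integers. -/
theorem exists_hilb {W : Scheme.{u}} (K : ℕ) (s : W ⟶ PZ K) [IsClosedImmersion s] :
    ∃ (H Z : Scheme.{u}) (qH : Z ⟶ H) (jH : Z ⟶ W),
    LocallyOfFiniteType (specULiftZIsTerminal.from H) ∧ IsEmb K qH (jH ≫ s) ∧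
    ∀ {T X : Scheme.{u}} (q : X ⟶ T) (j : X ⟶ W), IsEmb K q (j ≫ s) →
      ∃! g : T ⟶ H, ∃ i : X ⟶ Z, IsPullback i q qH g ∧ i ≫ jH = j := by
  obtain ⟨H, Z, qH, jH, hH, hZ, hUP⟩ := exists_hilb_ln K s
  refine ⟨H, Z, qH, jH, hH, hZ, ?_⟩
  have hW : LocallyOfFiniteType (specULiftZIsTerminal.from W) := by
    have h1 : specULiftZIsTerminal.from W = s ≫ specULiftZIsTerminal.from (PZ K) := specULiftZIsTerminal.hom_ext _ _
    rw [h1]
    infer_instance
  have hW' : LocallyOfFinitePresentation (specULiftZIsTerminal.from W) := lfp_of_noeth _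
  have hH' : LocallyOfFinitePresentation (specULiftZIsTerminal.from H) := lfp_of_noeth _
  have hspec (A : Type u) [CommRing A] : UPAt K s qH jH (Spec (CommRingCat.of A)) :=
    upAt_limit K s (Groth.Agent.Flat2D.SpecFGLimit.isLimitSpecCone A) hZ (fun i X q j hq => hUP q j inferInstance hq)
  have hcov (T : Scheme.{u}) : ∃ 𝒱 : T.OpenCover, ∀ k, UPAt K s qH jH (𝒱.X k) :=
    ⟨T.affineCover, fun k => hspec _⟩
  intro T X q j hq
  obtain ⟨𝒱, h𝒱⟩ := hcov T
  exact upAt_of_cover K s hZ 𝒱 h𝒱 (fun i i' => hcov _) q j hq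

end K740.Hilb
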