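import Mathlib.AlgebraicGeometry.Morphisms.FinitePresentation
import Mathlib.AlgebraicGeometry.Limits
import Mathlib.CategoryTheory.Limits.Shapes.WidePullbacks

/-!
# Finite fibre powers of a morphism
-/

set_option autoImplicit false

universe u

open CategoryTheory CategoryTheory.Limits AlgebraicGeometry

namespace K740.Power

theorem exists_power (P : MorphismProperty Scheme.{u}) [P.IsStableUnderComposition] [P.IsStableUnderBaseChange]
    (hid : ∀ X : Scheme.{u}, P (𝟙 X))
    {Z H : Scheme.{u}} (q : Z ⟶ H) (hq : P q) (n : ℕ) :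
    ∃ (W : Scheme.{u}) (p : W ⟶ H) (π : Fin n → (W ⟶ Z)), P p ∧ (∀ k, π k ≫ q = p) ∧
      ∀ {T : Scheme.{u}} (g : T ⟶ H) (s : Fin n → (T ⟶ Z)), (∀ k, s k ≫ q = g) →
        ∃! w : T ⟶ W, w ≫ p = g ∧ ∀ k, w ≫ π k = s k := by
  induction n with
  | zero =>
    refine ⟨H, 𝟙 H, Fin.elim0, hid H, fun k => k.elim0, fun {T} g s hs => ⟨g, ⟨Category.comp_id g, fun k => k.elim0⟩, ?_⟩⟩
    rintro w ⟨h, -⟩
    rwa [Category.comp_id] at h
  | succ n ih =>
    obtain ⟨W, p, π, hp, hπ, hu⟩ := ih
    refine ⟨pullback p q, pullback.fst p q ≫ p, Fin.cons (pullback.snd p q) (fun k => pullback.fst p q ≫ π k),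
      P.comp_mem _ _ (P.pullback_fst _ _ hq) hp, ?_, ?_⟩
    · intro k
      refine Fin.cases ?_ (fun k => ?_) k
      · exact pullback.condition.symm
      · change (pullback.fst p q ≫ π k) ≫ q = _
        rw [Category.assoc, hπ]
    · intro T g s hs
      obtain ⟨w, ⟨hw, hw'⟩, hwu⟩ := hu g (fun k => s k.succ) (fun k => hs _)
      refine ⟨pullback.lift w (s 0) (by rw [hw, hs]), ⟨?_, ?_⟩, ?_⟩
      · rw [pullback.lift_fst_assoc, hw]
      · intro k
        refine Fin.cases ?_ (fun k => ?_) k
        · exact pullback.lift_snd _ _ _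
        · change _ ≫ pullback.fst p q ≫ π k = _
          rw [pullback.lift_fst_assoc, hw']
      · rintro w' ⟨h1, h2⟩
        refine pullback.hom_ext ?_ ?_
        · rw [pullback.lift_fst]
          refine hwu _ ⟨?_, fun k => ?_⟩
          · rw [Category.assoc, h1]
          · rw [Category.assoc]
            exact h2 k.succ
        · rw [pullback.lift_snd]
          exact h2 0

theorem widePullback_base (P : MorphismProperty Scheme.{u}) [P.IsStableUnderComposition] [P.IsStableUnderBaseChange]
    (hid : ∀ X : Scheme.{u}, P (𝟙 X))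
    {Z H : Scheme.{u}} (q : Z ⟶ H) (hq : P q) (n : ℕ) :
    P (WidePullback.base (B := H) (objs := fun _ : Fin n => Z) (fun _ => q)) := by
  obtain ⟨W, p, π, hp, hπ, hu⟩ := exists_power P hid q hq n
  obtain ⟨w, ⟨hw1, hw2⟩, -⟩ := hu (WidePullback.base (B := H) (objs := fun _ : Fin n => Z) (fun _ => q))
    (fun k => WidePullback.π _ k) (fun k => WidePullback.π_arrow _ k)
  let w' : W ⟶ widePullback H (fun _ : Fin n => Z) (fun _ => q) := WidePullback.lift p π hπ
  have h1 : w ≫ w' = 𝟙 _ := by
    refine WidePullback.hom_ext _ _ _ (fun k => ?_) ?_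
    · rw [Category.assoc, WidePullback.lift_π, hw2, Category.id_comp]
    · rw [Category.assoc, WidePullback.lift_base, hw1, Category.id_comp]
  have h2 : w' ≫ w = 𝟙 _ := by
    refine (hu p π hπ).unique ⟨?_, fun k => ?_⟩ ⟨Category.id_comp _, fun k => Category.id_comp _⟩
    · rw [Category.assoc, hw1, WidePullback.lift_base]
    · rw [Category.assoc, hw2, WidePullback.lift_π]
  have : IsIso w := ⟨w', h1, h2⟩
  rw [← hw1]
  exact (P.cancel_left_of_respectsIso w p).2 hp

end K740.Power
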