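import Groth.Agent.CurvSt.K740.Hilb
import Groth.Agent.CurvSt.K740.Power
import Groth.Prelude.Def_StCurv2
import Mathlib.CategoryTheory.Limits.Shapes.WidePullbacks

/-!
# The universal pointed embedded curve
-/

set_option autoImplicit false
set_option linter.unusedSectionVars false
set_option backward.isDefEq.respectTransparency false
set_option backward.isDefEq.respectTransparency.types false

universe u

open CategoryTheory CategoryTheory.Limits AlgebraicGeometry CurvSt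

namespace K740.Chart

open K740.Emb K390.PnSec

/-- (P4), as a hypothesis -/
def OpensH1van : Prop :=
  ∀ {X T : Scheme.{u}} [IsLocallyNoetherian T] (q : X ⟶ T) [IsProper q] [Flat q]
    (_ : ∀ x : X, FlatMor.fibreDimAt q x ≤ 1) (L : X.Modules) (_ : PicF.IsInvertible L),
    ∃ U : T.Opens, ∀ (T' X' : Scheme.{u}) (g : T' ⟶ T) (g' : X' ⟶ X) (q' : X' ⟶ T'), IsPullback g' q' q g →
      (H1van q' ((Scheme.Modules.pullback g').obj L) ↔ Set.range g ⊆ (U : Set T))

/-- An embedded curve with vanishing `H¹`. -/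
def IsEmb1 {X T : Scheme.{u}} (N : ℕ) (q : X ⟶ T) (j : X ⟶ PZ N) : Prop :=
  IsEmb N q j ∧ H1van q (O1p j)

theorem IsEmb1.bc {X T X' T' : Scheme.{u}} {N : ℕ} {q : X ⟶ T} {j : X ⟶ PZ N} (h : IsEmb1 N q j) {q' : X' ⟶ T'}
    {a : X' ⟶ X} {t : T' ⟶ T} (sq : IsPullback a q' q t) : IsEmb1 N q' (a ≫ j) :=
  ⟨h.1.bc sq, h1van_bc h.2 sq⟩

/-- The universal embedded curve with vanishing `H¹`. -/
theorem exists_univ1 (h4 : OpensH1van.{u}) (N : ℕ) : ∃ (H Z : Scheme.{u}) (q : Z ⟶ H) (j : Z ⟶ PZ N),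
    LocallyOfFiniteType (specULiftZIsTerminal.from H) ∧ IsEmb1 N q j ∧
    ∀ {T X : Scheme.{u}} (q' : X ⟶ T) (j' : X ⟶ PZ N), IsEmb1 N q' j' →
      ∃! g : T ⟶ H, ∃ i : X ⟶ Z, IsPullback i q' q g ∧ i ≫ j = j' := by
  obtain ⟨H, Z, q, j, hH, hZ, hu⟩ := K740.Hilb.exists_hilb.{u} N (𝟙 (PZ N))
  rw [Category.comp_id] at hZ
  have : IsLocallyNoetherian H := LocallyOfFiniteType.isLocallyNoetherian (specULiftZIsTerminal.from H)
  have := hZ.isProper
  have := hZ.flat
  obtain ⟨U, hU⟩ := h4 q hZ.dim (O1p j) (Groth.Agent.Fdesc.LocGen.isInvertible_pullback _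
    (isInvertible_O1 N (ULift.{u} ℤ)))
  have sq : IsPullback (pullback.fst q U.ι) (pullback.snd q U.ι) q U.ι := IsPullback.of_hasPullback _ _
  have key {T X : Scheme.{u}} {q' : X ⟶ T} {j' : X ⟶ PZ N} {g : T ⟶ H} {i : X ⟶ Z} (sq' : IsPullback i q' q g)
      (hj : i ≫ j = j') : H1van q' (O1p j') ↔ Set.range g ⊆ (U : Set H) := by
    rw [← hU T X g i q' sq', ← hj]
    exact ⟨fun h => h.congr (O1pComp i j).symm, fun h => h.congr (O1pComp i j)⟩
  refine ⟨U.toScheme, pullback q U.ι, pullback.snd q U.ι, pullback.fst q U.ι ≫ j, ?_, ⟨hZ.bc sq, ?_⟩, ?_⟩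
  · have h1 : specULiftZIsTerminal.from U.toScheme = U.ι ≫ specULiftZIsTerminal.from H :=
      specULiftZIsTerminal.hom_ext _ _
    rw [h1]
    infer_instance
  · rw [key sq rfl, Scheme.Opens.range_ι]
  · intro T X q' j' hj'
    obtain ⟨g, ⟨i, hi, hij⟩, hg⟩ := hu q' j' (by rw [Category.comp_id]; exact hj'.1)
    have hr : Set.range g ⊆ Set.range U.ι := by
      rw [Scheme.Opens.range_ι]
      exact (key hi hij).1 hj'.2
    refine ⟨IsOpenImmersion.lift U.ι g hr, ⟨pullback.lift i (q' ≫ IsOpenImmersion.lift U.ι g hr)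
      (by rw [Category.assoc, IsOpenImmersion.lift_fac, hi.w]), ?_, ?_⟩, ?_⟩
    · refine IsPullback.of_right (h₁₂ := pullback.fst q U.ι) (v₁₃ := q) (h₂₂ := U.ι) ?_ (pullback.lift_snd _ _ _) sq
      rw [pullback.lift_fst, IsOpenImmersion.lift_fac]
      exact hi
    · rw [pullback.lift_fst_assoc, hij]
    · rintro g' ⟨i', hi', hij'⟩
      have h1 := hg (g' ≫ U.ι) ⟨i' ≫ pullback.fst q U.ι, hi'.paste_horiz sq, by rw [Category.assoc, hij']⟩
      rw [← cancel_mono U.ι, h1, IsOpenImmersion.lift_fac]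

theorem hom_ext_emb {N : ℕ} {T X V : Scheme.{u}} {q : X ⟶ T} {j : X ⟶ PZ N} (h : IsEmb1 N q j) {a b : V ⟶ X}
    (h1 : a ≫ j = b ≫ j) (h2 : a ≫ q = b ≫ q) : a = b :=
  hom_ext_of_mono h.1.mono h1 h2

/-- The universal pointed embedded curve over `S`. -/
theorem exists_univPt' (h4 : OpensH1van.{u}) (S : Scheme.{u}) (n N : ℕ) :
    ∃ (B : PtFamObj S n) (jB : B.C ⟶ PZ N), LocallyOfFinitePresentation B.base.hom ∧ IsEmb1 N B.f jB ∧
      ∀ (A : PtFamObj S n) (j : A.C ⟶ PZ N), IsEmb1 N A.f j → ∃! b : A ⟶ B, b.top ≫ jB = j := by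
  obtain ⟨H, Z, q, j, hH, hZ, hu⟩ := exists_univ1 h4 N
  let Un := widePullback H (fun _ : Fin n => Z) (fun _ => q)
  let p0 : Un ⟶ H := WidePullback.base _
  let π (k : Fin n) : Un ⟶ Z := WidePullback.π _ k
  have hπ (k : Fin n) : π k ≫ q = p0 := WidePullback.π_arrow _ k
  let U := pullback (specULiftZIsTerminal.from Un) (specULiftZIsTerminal.from S)
  let e : U ⟶ Un := pullback.fst _ _
  let s : U ⟶ S := pullback.snd _ _
  let h : U ⟶ H := e ≫ p0
  let i : pullback q h ⟶ Z := pullback.fst q h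
  let f : pullback q h ⟶ U := pullback.snd q h
  have sq : IsPullback i f q h := IsPullback.of_hasPullback _ _
  let B : PtFamObj S n :=
    { base := Over.mk s
      C := pullback q h
      f := f
      sect := fun k => sq.lift (e ≫ π k) (𝟙 U) (by rw [Category.assoc, hπ]; exact (Category.id_comp h).symm)
      sect_f := fun k => sq.lift_snd _ _ _ }
  have hsi (k : Fin n) : B.sect k ≫ i = e ≫ π k := sq.lift_fst _ _ _
  have hlfp : LocallyOfFinitePresentation B.base.hom := by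
    have h1 : LocallyOfFinitePresentation (specULiftZIsTerminal.from H) := lfp_of_noeth _
    have h2 : LocallyOfFinitePresentation p0 :=
      K740.Power.widePullback_base @LocallyOfFinitePresentation (fun X => inferInstance) q hZ.1.lfp n
    have h3 : LocallyOfFinitePresentation (specULiftZIsTerminal.from Un) := by
      have h4 : specULiftZIsTerminal.from Un = p0 ≫ specULiftZIsTerminal.from H := specULiftZIsTerminal.hom_ext _ _
      rw [h4]
      infer_instance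
    exact MorphismProperty.pullback_snd (P := @LocallyOfFinitePresentation) _ _ h3
  refine ⟨B, i ≫ j, hlfp, hZ.bc sq, ?_⟩
  intro A j' hj'
  obtain ⟨g, ⟨iA, hiA, hij⟩, hg⟩ := hu A.f j' hj'
  let gU : A.base.left ⟶ Un := WidePullback.lift g (fun k => A.sect k ≫ iA) (fun k => by
    rw [Category.assoc, hiA.w, reassoc_of% (A.sect_f k)])
  have hgU : gU ≫ p0 = g := WidePullback.lift_base _ _ _ _
  have hgUk (k : Fin n) : gU ≫ π k = A.sect k ≫ iA := WidePullback.lift_π _ _ _ _ _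
  let w : A.base.left ⟶ U := pullback.lift gU A.base.hom (specULiftZIsTerminal.hom_ext _ _)
  have hwe : w ≫ e = gU := pullback.lift_fst _ _ _
  have hws : w ≫ s = A.base.hom := pullback.lift_snd _ _ _
  have hwh : w ≫ h = g := by rw [← Category.assoc, hwe, hgU]
  let top : A.C ⟶ pullback q h := sq.lift iA (A.f ≫ w) (by rw [Category.assoc, hwh, hiA.w])
  have ht1 : top ≫ i = iA := sq.lift_fst _ _ _
  have ht2 : top ≫ f = A.f ≫ w := sq.lift_snd _ _ _
  let b : A ⟶ B :=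
    { base := Over.homMk w hws
      top := top
      cart := by
        refine IsPullback.of_right (h₁₂ := i) (v₁₃ := q) (h₂₂ := h) ?_ ht2 sq
        rw [ht1]
        change IsPullback iA A.f q (w ≫ h)
        rw [hwh]
        exact hiA
      w_sect := fun k => by
        change A.sect k ≫ top = w ≫ B.sect k
        refine sq.hom_ext ?_ ?_
        · rw [Category.assoc, ht1, Category.assoc, hsi, ← Category.assoc, hwe, hgUk]
        · rw [Category.assoc, ht2, Category.assoc]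
          change _ = w ≫ B.sect k ≫ B.f
          rw [B.sect_f k, reassoc_of% (A.sect_f k)]
          exact (Category.comp_id _).symm }
  refine ⟨b, ?_, ?_⟩
  · change top ≫ i ≫ j = j'
    rw [reassoc_of% ht1, hij]
  · intro b' hb'
    have hb'c : IsPullback b'.top A.f f b'.base.left := b'.cart
    have h1 : b'.base.left ≫ h = g := hg _ ⟨b'.top ≫ i, hb'c.paste_horiz sq, by
      rw [Category.assoc]
      exact hb'⟩
    have h2 : b'.top ≫ i = iA := by
      refine hom_ext_emb hZ ?_ ?_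
      · rw [Category.assoc, hij]
        exact hb'
      · have := (hb'c.paste_horiz sq).w
        rw [this, h1, hiA.w]
    have h3 : b'.base.left = w := by
      refine pullback.hom_ext ?_ ?_
      · change b'.base.left ≫ e = w ≫ e
        rw [hwe]
        refine WidePullback.hom_ext _ _ _ (fun k => ?_) ?_
        · change (b'.base.left ≫ e) ≫ π k = gU ≫ π k
          rw [hgUk, Category.assoc, ← hsi k, ← h2]
          have h5 : A.sect k ≫ b'.top ≫ i = b'.base.left ≫ B.sect k ≫ i := by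
            rw [← Category.assoc, b'.w_sect k]
            exact Category.assoc _ _ _
          exact h5.symm
        · change (b'.base.left ≫ e) ≫ p0 = gU ≫ p0
          rw [hgU, Category.assoc]
          exact h1
      · change b'.base.left ≫ s = w ≫ s
        rw [hws]
        exact Over.w b'.base
    apply PtFamObj.hom_ext
    · apply Over.OverMorphism.ext
      exact h3
    · refine sq.hom_ext ?_ ?_
      · change b'.top ≫ i = top ≫ i
        rw [h2, ht1]
      · change b'.top ≫ f = top ≫ f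
        rw [ht2, hb'c.w, h3]

/-- The universal pointed embedded curve over `S`. -/
theorem exists_univPt (h4 : OpensH1van.{u}) (S : Scheme.{u}) (n N : ℕ) :
    ∃ (B : PtFamObj S n) (jB : B.C ⟶ PZ N), IsEmb1 N B.f jB ∧
      ∀ (A : PtFamObj S n) (j : A.C ⟶ PZ N), IsEmb1 N A.f j → ∃! b : A ⟶ B, b.top ≫ jB = j := by
  obtain ⟨B, jB, -, h⟩ := exists_univPt' h4 S n N
  exact ⟨B, jB, h⟩

/-- (P3), as a hypothesis -/
def EmbScheme : Prop :=
  ∀ {T X : Scheme.{u}} [IsAffine T] (M : ℕ) (q : X ⟶ T) (r : X ⟶ PZ M) (_ : IsEmb M q r) (N : ℕ),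
    ∃ (E XE : Scheme.{u}) (e : E ⟶ T) (a : XE ⟶ X) (qE : XE ⟶ E) (jE : XE ⟶ PZ N),
      Smooth e ∧ IsPullback a qE q e ∧ IsEmb N qE jE ∧ H1van qE (O1p jE) ∧
      ∀ {T' X' : Scheme.{u}} (t : T' ⟶ T) (a' : X' ⟶ X) (q' : X' ⟶ T') (_ : IsPullback a' q' q t) (j : X' ⟶ PZ N),
        IsEmb N q' j → H1van q' (O1p j) →
        ∃! g : T' ⟶ E, g ≫ e = t ∧ ∃ b : X' ⟶ XE, b ≫ a = a' ∧ b ≫ qE = q' ≫ g ∧ b ≫ jE = j

/-- The embeddings of an embedded pointed family over an affine base. -/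
theorem exists_rho (h3 : EmbScheme.{u}) {S : Scheme.{u}} {n : ℕ} (A : PtFamObj S n) [IsAffine A.base.left] (M : ℕ)
    (r : A.C ⟶ PZ M) (hr : IsEmb M A.f r) (N : ℕ) :
    ∃ (ρ : PtFamObj S n) (a : ρ ⟶ A) (jρ : ρ.C ⟶ PZ N), Smooth a.base.left ∧ IsEmb1 N ρ.f jρ ∧
      ∀ (ζ : PtFamObj S n) (a' : ζ ⟶ A) (j : ζ.C ⟶ PZ N), IsEmb1 N ζ.f j →
        ∃! c : ζ ⟶ ρ, c ≫ a = a' ∧ c.top ≫ jρ = j := by
  obtain ⟨E, XE, e, a, qE, jE, hsm, sq, hE1, hE2, hu⟩ := h3 M A.f r hr N
  let ρ : PtFamObj S n :=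
    { base := Over.mk (e ≫ A.base.hom)
      C := XE
      f := qE
      sect := fun k => sq.lift (e ≫ A.sect k) (𝟙 E) (by
        rw [Category.assoc, A.sect_f]
        exact (Category.comp_id e).trans (Category.id_comp e).symm)
      sect_f := fun k => sq.lift_snd _ _ _ }
  have hs (k : Fin n) : ρ.sect k ≫ a = e ≫ A.sect k := sq.lift_fst _ _ _
  let a₁ : ρ ⟶ A :=
    { base := Over.homMk e rfl
      top := a
      cart := sq
      w_sect := fun k => hs k }
  refine ⟨ρ, a₁, jE, hsm, ⟨hE1, hE2⟩, ?_⟩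
  intro ζ a' j hj
  obtain ⟨g, ⟨hg, b, hb1, hb2, hb3⟩, hgu⟩ := hu a'.base.left a'.top ζ.f a'.cart j hj.1 hj.2
  have sqb : IsPullback b ζ.f qE g := by
    refine IsPullback.of_right (h₁₂ := a) (v₁₃ := A.f) (h₂₂ := e) ?_ hb2 sq
    rw [hb1, hg]
    exact a'.cart
  let c : ζ ⟶ ρ :=
    { base := Over.homMk g (by
        change g ≫ e ≫ A.base.hom = _
        rw [reassoc_of% hg, Over.w])
      top := b
      cart := sqb
      w_sect := fun k => by
        change ζ.sect k ≫ b = g ≫ ρ.sect k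
        refine sq.hom_ext ?_ ?_
        · rw [Category.assoc, hb1, Category.assoc, hs, reassoc_of% hg]
          exact a'.w_sect k
        · rw [Category.assoc, hb2, reassoc_of% (ζ.sect_f k), Category.assoc]
          change g = g ≫ ρ.sect k ≫ ρ.f
          rw [ρ.sect_f k]
          exact (Category.comp_id g).symm }
  refine ⟨c, ⟨?_, hb3⟩, ?_⟩
  · apply PtFamObj.hom_ext
    · apply Over.OverMorphism.ext
      exact hg
    · exact hb1
  · rintro c' ⟨h1, h2⟩
    have h5 : c'.top ≫ a = a'.top := congrArg PtFamObj.Hom.top h1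
    have h6 : c'.base.left ≫ e = a'.base.left := congrArg (fun t => t.base.left) h1
    have h7 : c'.base.left = g := hgu _ ⟨h6, c'.top, h5, c'.cart.w, h2⟩
    apply PtFamObj.hom_ext
    · apply Over.OverMorphism.ext
      exact h7
    · refine sq.hom_ext ?_ ?_
      · exact h5.trans hb1.symm
      · change c'.top ≫ qE = b ≫ qE
        rw [hb2, ← h7]
        exact c'.cart.w

/-- An embedded family has the structure of a product with the universal one. -/
theorem exists_prod' (h4 : OpensH1van.{u}) (h3 : EmbScheme.{u}) (S : Scheme.{u}) (n N : ℕ) :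
    ∃ (B : PtFamObj S n) (jB : B.C ⟶ PZ N), LocallyOfFinitePresentation B.base.hom ∧ IsEmb1 N B.f jB ∧
      (∀ (A : PtFamObj S n) (j : A.C ⟶ PZ N), IsEmb1 N A.f j → ∃ b : A ⟶ B, b.top ≫ jB = j) ∧
      ∀ (A : PtFamObj S n) (_ : IsAffine A.base.left) (M : ℕ) (r : A.C ⟶ PZ M) (_ : IsEmb M A.f r),
        ∃ (ρ : PtFamObj S n) (a : ρ ⟶ A) (b : ρ ⟶ B), Smooth a.base.left ∧ ∀ (ζ : PtFamObj S n) (a' : ζ ⟶ A) (b' : ζ ⟶ B),
          ∃! c : ζ ⟶ ρ, c ≫ a = a' ∧ c ≫ b = b' := by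
  obtain ⟨B, jB, hlfp, hB, hu⟩ := exists_univPt' h4 S n N
  refine ⟨B, jB, hlfp, hB, fun A j hj => (hu A j hj).exists, fun A _ M r hr => ?_⟩
  obtain ⟨ρ, a, jρ, hsm, hρ, hρu⟩ := exists_rho h3 A M r hr N
  obtain ⟨b, hb, hbu⟩ := hu ρ jρ hρ
  refine ⟨ρ, a, b, hsm, fun ζ a' b' => ?_⟩
  have hζ : IsEmb1 N ζ.f (b'.top ≫ jB) := hB.bc b'.cart
  obtain ⟨c, ⟨hc1, hc2⟩, hcu⟩ := hρu ζ a' (b'.top ≫ jB) hζ
  refine ⟨c, ⟨hc1, ?_⟩, ?_⟩
  · refine (hu ζ (b'.top ≫ jB) hζ).unique ?_ rfl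
    change (c.top ≫ b.top) ≫ jB = _
    rw [Category.assoc, hb, hc2]
  · rintro c' ⟨h1, h2⟩
    refine hcu c' ⟨h1, ?_⟩
    rw [← h2, ← hb]
    exact (Category.assoc _ _ _).symm

/-- An embedded family has the structure of a product with the universal one. -/
theorem exists_prod (h4 : OpensH1van.{u}) (h3 : EmbScheme.{u}) (S : Scheme.{u}) (n N : ℕ) :
    ∃ (B : PtFamObj S n) (jB : B.C ⟶ PZ N), IsEmb1 N B.f jB ∧
      (∀ (A : PtFamObj S n) (j : A.C ⟶ PZ N), IsEmb1 N A.f j → ∃ b : A ⟶ B, b.top ≫ jB = j) ∧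
      ∀ (A : PtFamObj S n) (_ : IsAffine A.base.left) (M : ℕ) (r : A.C ⟶ PZ M) (_ : IsEmb M A.f r),
        ∃ (ρ : PtFamObj S n) (a : ρ ⟶ A) (b : ρ ⟶ B), Smooth a.base.left ∧ ∀ (ζ : PtFamObj S n) (a' : ζ ⟶ A) (b' : ζ ⟶ B),
          ∃! c : ζ ⟶ ρ, c ≫ a = a' ∧ c ≫ b = b' := by
  obtain ⟨B, jB, -, h⟩ := exists_prod' h4 h3 S n N
  exact ⟨B, jB, h⟩

end K740.Chart
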