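import Groth.Agent.CurvSt.K740.CurvAlg
import Groth.Agent.CurvSt.K136.ExistsEmb
import Groth.Agent.CurvSt.K136.LiftSmall
import Groth.Agent.CurvSt.K139.OpensH1
import Groth.Agent.CurvSt.K502.EmbScheme
import Groth.Agent.S16733
import Groth.Agent.CurvSt.K902.SelfChart

/-!
# The stack of curves is algebraic (given that curves are étale locally schemes)
-/

set_option autoImplicit false

universe w v u

open CategoryTheory CategoryTheory.Limits Opposite AlgebraicGeometry CurvSt AlgSp

namespace K740.CurvAlg

open K740.Prod K740.Chart K740.Emb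

theorem opensH1van : OpensH1van.{u} := fun q _ _ hd L hL => K139.OpensH1.exists_opens_H1van q hd L hL

theorem embScheme : EmbScheme.{u} := fun M q r hr N =>
  K502.EmbScheme.exists_of_stmts (fun K s => K740.Hilb.exists_hilb K s)
    (fun q _ _ hd L hL => K139.OpensH1.exists_opens_H1van q hd L hL)
    (fun N B B' _ _ _ _ _ _ φ ε h1 h2 h3 _ _ q' _ _ hd q i sq j hj hv =>
      K136.LiftSmall.exists_lift_small N B B' φ ε h1 h2 h3 q' hd q i sq j hj hv) M q r hr N

theorem existsEmb : ExistsEmb.{u} := fun k _ _ p hp hd => K136.ExistsEmb.exists_emb k p hp hd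

theorem projEtLoc : K902.EtSchRed.ProjEtLoc.{u} := fun f _ _ _ hd s => Groth.Agent.S16733.result f hd s

/-- **The stack of curves is algebraic**, given that families of curves are étale locally schemes. -/
theorem isAlgStack_curves_of (S : Scheme.{u}) (n : ℕ)
    (hE : ∀ A : SpFamObj S n, IsCurveFam A → K901.EtSch.EtLocSch A) :
    AlgSt.IsAlgStack Scheme.fppfPrecoverage (Curves S n) :=
  isAlgStack_of opensH1van embScheme projEtLoc existsEmb hE

/-- An atlas which is locally of finite presentation over `S`. -/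
theorem exists_atlas_of (S : Scheme.{u}) (n : ℕ)
    (hE : ∀ A : SpFamObj S n, IsCurveFam A → K901.EtSch.EtLocSch A) :
    ∃ (U : Over S) (x : FibCat.overCat U ⥤ᵇ Curves S n), LocallyOfFinitePresentation U.hom ∧
      AlgSt.RepByAlgSpWith (AlgSp.LocP @Smooth) x ∧ AlgSt.RepByAlgSpWith AlgSp.IsSurjectiveMor x :=
  exists_atlas opensH1van embScheme projEtLoc existsEmb hE

/-- The stack of curves is locally of finite presentation over `S`. -/
theorem locQ_lfp_toSelf_of (S : Scheme.{u}) (n : ℕ)
    (hE : ∀ A : SpFamObj S n, IsCurveFam A → K901.EtSch.EtLocSch A) :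
    AlgSt.LocQ (AlgSp.LocP @LocallyOfFinitePresentation) (FibCat.toSelf (Curves S n)) := by
  obtain ⟨U, x, h1, h2, h3⟩ := exists_atlas_of S n hE
  refine K902.SelfChart.locQ_toSelf x h2 h3 ?_
  exact K597.locP_of_chart K597.etLoc_lfp _ (𝟙 _) (𝟙 _) _ (AlgSp.repWith_id _ _) (AlgSp.repWith_id _ _)
    (AlgSp.repWith_id _ _) (by rw [Category.id_comp, Category.comp_id]) h1

end K740.CurvAlg
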