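import Groth.Agent.CurvSt.K740.DiagLfp
import Groth.Agent.CurvSt.K903.IsomQC
import Groth.Agent.AlgSt.K740.SpIso
import Groth.Agent.AlgSp.K633.FtClosed
import Groth.Agent.AlgSt.K738.RepSep

/-!
# The diagonal of the stack of curves: separated and of finite presentation
-/

set_option autoImplicit false

universe w v u

open CategoryTheory CategoryTheory.Limits Opposite AlgebraicGeometry CurvSt AlgSp

namespace K740.CurvAlg

/-- All properties of the diagonal of the stack of curves. -/
theorem diag_all (S : Scheme.{u}) (n : ℕ) :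
    AlgSt.RepByAlgSpWith (AlgSp.IsQuasiCompactMor ⊓ (AlgSp.IsSeparatedMor ⊓ AlgSp.LocP @LocallyOfFinitePresentation))
      (FibCat.diag (FibCat.toSelf (Curves S n))) := by
  refine K903.IsomQC.main_of projEtLoc etLoc ?_
  exact K740.SpIso.repByAlgSpWith_inf (isSeparatedMor_diag S n) (lfp_diag S n)

/-- The diagonal of the stack of curves is separated and of finite presentation. -/
theorem diag_sep_fp (S : Scheme.{u}) (n : ℕ) :
    AlgSt.RepByAlgSpWith (AlgSp.IsSeparatedMor ⊓ AlgSp.IsFinitePresentationMor)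
      (FibCat.diag (FibCat.toSelf (Curves S n))) :=
  K738.repByAlgSpWith_mono (diag_all S n) fun π h =>
    ⟨h.2.1, h.2.2, h.1, K633.FtClosed.isQuasiSeparatedMor_of_isSeparatedMor h.2.1⟩

/-- The stack of curves is quasi-separated over `S`. -/
theorem isQuasiSeparatedOver_curves (S : Scheme.{u}) (n : ℕ) : AlgSt.IsQuasiSeparatedOver (Curves S n) :=
  K738.repByAlgSpWith_mono (diag_all S n) fun π h =>
    ⟨h.1, K633.FtClosed.isQuasiSeparatedMor_of_isSeparatedMor h.2.1⟩

/-- The diagonal of the stack of curves is quasi-compact and separated. -/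
theorem diag_qc_sep (S : Scheme.{u}) (n : ℕ) :
    AlgSt.RepByAlgSpWith (AlgSp.IsQuasiCompactMor ⊓ AlgSp.IsSeparatedMor)
      (FibCat.diag (FibCat.toSelf (Curves S n))) :=
  K738.repByAlgSpWith_mono (diag_all S n) fun π h => ⟨h.1, h.2.1⟩

end K740.CurvAlg
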