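import Groth.Agent.CurvSt.K740.DiagFin
import Groth.Agent.AlgSt.K740.LfpDiag

/-!
# The diagonal of the stack of curves is locally of finite presentation
-/

set_option autoImplicit false

universe w v u

open CategoryTheory CategoryTheory.Limits Opposite AlgebraicGeometry CurvSt AlgSp

namespace K740.CurvAlg

/-- The stack of curves is locally of finite type over `S`. -/
theorem locQ_lft_toSelf (S : Scheme.{u}) (n : ℕ) :
    AlgSt.LocQ (AlgSp.LocP @LocallyOfFiniteType) (FibCat.toSelf (Curves S n)) := by
  obtain ⟨U, V, x, y, g, i, hx, hxs, hy, hP⟩ := locQ_lfp_toSelf S n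
  exact ⟨U, V, x, y, g, i, hx, hxs, hy, K597.locP_mono
    (fun _ _ f (_ : LocallyOfFinitePresentation f) => (inferInstance : LocallyOfFiniteType f)) hP⟩

/-- The diagonal of the stack of curves is locally of finite presentation. -/
theorem lfp_diag (S : Scheme.{u}) (n : ℕ) :
    AlgSt.RepByAlgSpWith (AlgSp.LocP @LocallyOfFinitePresentation) (FibCat.diag (FibCat.toSelf (Curves S n))) :=
  K740.LfpDiag.repByAlgSpWith_lfp_diag (isAlgStack_curves S n) (locQ_lft_toSelf S n)

end K740.CurvAlg
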