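import Groth.Agent.CurvSt.K740.Emb
import Groth.Agent.Ega4fib.H172.FibDimBC
import Groth.Agent.Sga5.ProjSmooth

/-!
# Embedded families: base change, uniqueness
-/

set_option autoImplicit false
set_option linter.unusedSectionVars false
set_option backward.isDefEq.respectTransparency false
set_option backward.isDefEq.respectTransparency.types false

universe u

open CategoryTheory CategoryTheory.Limits AlgebraicGeometry

namespace K740.Emb

open K390.PnSec Groth.Agent.Dix.ProjProper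

variable {X T X' T' : Scheme.{u}} {N : ℕ}

instance isLFP_PZ (N : ℕ) : LocallyOfFinitePresentation (specULiftZIsTerminal.from (PZ.{u} N)) := by
  have : specULiftZIsTerminal.from (PZ.{u} N) = CohB1.ProjSpace.toSpec N (ULift.{u} ℤ) :=
    specULiftZIsTerminal.hom_ext _ _
  rw [this]
  have h : Smooth (CohB1.ProjSpace.toSpec N (ULift.{u} ℤ)) := SmoothOfRelativeDimension.smooth N _
  infer_instance

theorem lfp_of_noeth {X Y : Scheme.{u}} (f : X ⟶ Y) [IsLocallyNoetherian Y] [LocallyOfFiniteType f] :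
    LocallyOfFinitePresentation f where
  finitePresentation_appLE {U} hU {V} hV e := by
    have : IsNoetherianRing Γ(Y, U) := IsLocallyNoetherian.component_noetherian ⟨U, hU⟩
    exact RingHom.FinitePresentation.of_finiteType.1 (f.finiteType_appLE hU hV e)

theorem HH_of_iso {X : Scheme.{u}} {M N : X.Modules} (e : M ≅ N) (n : ℕ)
    (h : Subsingleton (Coh.HH X M n)) : Subsingleton (Coh.HH X N n) := by
  refine ⟨fun a b => ?_⟩
  have e' := (SheafOfModules.toSheaf X.ringCatSheaf).mapIso e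
  have key : ∀ a : Coh.HH X N n, Sheaf.H.map e'.hom n (Sheaf.H.map e'.inv n a) = a := by
    intro a
    rw [← Sheaf.H.map_comp_apply, e'.inv_hom_id, Sheaf.H.map_id_apply]
  rw [← key a, ← key b]
  congr 1
  exact h.elim _ _

theorem liftP_bc {q : X ⟶ T} {q' : X' ⟶ T'} {a : X' ⟶ X} {t : T' ⟶ T} (sq : IsPullback a q' q t) (j : X ⟶ PZ N) :
    IsPullback a (liftP (a ≫ j) q') (liftP j q) (mapBase N t) := by
  refine IsPullback.of_bot ?_ ?_ (isPullback_mapBase N t)
  · rw [liftP_toBase, liftP_toBase]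
    exact sq
  · apply hom_ext_over
    · rw [Category.assoc, Category.assoc, liftP_toZ, mapBase_toZ, liftP_toZ]
    · rw [Category.assoc, Category.assoc, liftP_toBase, mapBase_toBase, reassoc_of% (liftP_toBase (a ≫ j) q'), sq.w]

/-- flat, lfp, fibres of dimension at most one -/
def IsFam : MorphismProperty Scheme.{u} := fun _ _ q =>
  Flat q ∧ LocallyOfFinitePresentation q ∧ ∀ x, FlatMor.fibreDimAt q x ≤ 1

theorem fibreDimAt_le_bc {q : X ⟶ T} {q' : X' ⟶ T'} {a : X' ⟶ X} {t : T' ⟶ T} (sq : IsPullback a q' q t)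
    [LocallyOfFiniteType q] (h : ∀ x, FlatMor.fibreDimAt q x ≤ 1) (x : X') : FlatMor.fibreDimAt q' x ≤ 1 := by
  rw [Groth.Agent.Ega4fib.H172.FibDimBC.fibreDimAt_of_isPullback sq x]
  exact h _

theorem IsEmb.isProper {q : X ⟶ T} {j : X ⟶ PZ N} (h : IsEmb N q j) : IsProper q := by
  have := h.closed
  rw [← liftP_toBase j q]
  infer_instance

theorem IsEmb.mono {q : X ⟶ T} {j : X ⟶ PZ N} (h : IsEmb N q j) : Mono (liftP j q) := by
  have := h.closed
  infer_instance

theorem IsEmb.bc {q : X ⟶ T} {j : X ⟶ PZ N} (h : IsEmb N q j) {q' : X' ⟶ T'} {a : X' ⟶ X} {t : T' ⟶ T}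
    (sq : IsPullback a q' q t) : IsEmb N q' (a ≫ j) where
  closed := MorphismProperty.of_isPullback (P := @IsClosedImmersion) (liftP_bc sq j) h.closed
  flat := MorphismProperty.of_isPullback (P := @Flat) sq h.flat
  lfp := MorphismProperty.of_isPullback (P := @LocallyOfFinitePresentation) sq h.lfp
  dim := by
    have := h.lfp
    exact fibreDimAt_le_bc sq h.dim

theorem H1van.bc {q : X ⟶ T} {L : X.Modules} (h : H1van q L) {q' : X' ⟶ T'} {a : X' ⟶ X} {t : T' ⟶ T}
    (sq : IsPullback a q' q t) : H1van q' ((Scheme.Modules.pullback a).obj L) := by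
  intro k _ s Y i p sq'
  exact HH_of_iso ((Scheme.Modules.pullbackComp i a).symm.app L) 1
    (h k (s ≫ t) Y (i ≫ a) p (sq'.paste_horiz sq))

theorem H1van.congr {q : X ⟶ T} {L L' : X.Modules} (e : L ≅ L') (h : H1van q L) : H1van q L' := by
  intro k _ s Y i p sq'
  exact HH_of_iso ((Scheme.Modules.pullback i).mapIso e) 1 (h k s Y i p sq')

/-- `O(1)` of a composite. -/
noncomputable def O1pComp (a : X' ⟶ X) (j : X ⟶ PZ N) : (Scheme.Modules.pullback a).obj (O1p j) ≅ O1p (a ≫ j) :=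
  (Scheme.Modules.pullbackComp a j).app _

theorem h1van_bc {q : X ⟶ T} {j : X ⟶ PZ N} (h : H1van q (O1p j)) {q' : X' ⟶ T'} {a : X' ⟶ X} {t : T' ⟶ T}
    (sq : IsPullback a q' q t) : H1van q' (O1p (a ≫ j)) :=
  (h.bc sq).congr (O1pComp a j)

theorem hom_ext_of_mono {N : ℕ} {T X V : Scheme.{u}} {q : X ⟶ T} {j : X ⟶ PZ N} (h : Mono (liftP j q)) {a b : V ⟶ X}
    (h1 : a ≫ j = b ≫ j) (h2 : a ≫ q = b ≫ q) : a = b := by
  rw [← cancel_mono (liftP j q)]
  apply hom_ext_over
  · simpa only [Category.assoc, liftP_toZ] using h1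
  · simpa only [Category.assoc, liftP_toBase] using h2

/-- `(X, q, j)` and `(X', q', j')` over `T` are the same closed subscheme of `P^N_T` when they are so locally on `X`. -/
theorem exists_hom_of_local {T X X' : Scheme.{u}} {q : X ⟶ T} {j : X ⟶ PZ N} {q' : X' ⟶ T}
    {j' : X' ⟶ PZ N} (h' : Mono (liftP j' q')) (U : X.OpenCover)
    (hl : ∀ i : U.I₀, ∃ v : U.X i ⟶ X', v ≫ j' = U.f i ≫ j ∧ v ≫ q' = U.f i ≫ q) :
    ∃ a : X ⟶ X', a ≫ j' = j ∧ a ≫ q' = q := by
  choose v hv hv' using hl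
  refine ⟨U.glueMorphisms v ?_, ?_, ?_⟩
  · intro i i'
    refine hom_ext_of_mono h' ?_ ?_
    · rw [Category.assoc, Category.assoc, hv, hv, pullback.condition_assoc]
    · rw [Category.assoc, Category.assoc, hv', hv', pullback.condition_assoc]
  · refine U.hom_ext _ _ fun i => ?_
    rw [U.ι_glueMorphisms_assoc, hv]
  · refine U.hom_ext _ _ fun i => ?_
    rw [U.ι_glueMorphisms_assoc, hv']

end K740.Emb
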