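import Groth.Agent.CurvSt.K740.EmbBasic
import Groth.Agent.S3218
import Groth.Agent.S0402
import Groth.Agent.Picfga.HilbPull

/-!
# The Hilbert scheme of curves in a projective scheme over the integers: locally Noetherian test schemes
-/

set_option autoImplicit false
set_option linter.unusedSectionVars false
set_option backward.isDefEq.respectTransparency false
set_option backward.isDefEq.respectTransparency.types false

universe u

open CategoryTheory CategoryTheory.Limits AlgebraicGeometry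

namespace K740.Hilb

open K740.Emb K390.PnSec Groth.Agent.Dix.ProjProper Groth.Agent.Picfga.HilbPull

/-- Pullback of a closed subscheme of `X_T` in terms of families. -/
theorem hilbPull_eq_iff {X S : Scheme.{u}} (f : X ⟶ S) {T H : Over S} (g : T ⟶ H) (I : (PicF.XT f H).IdealSheafData)
    {Y : Scheme.{u}} (c : Y ⟶ PicF.XT f T) [IsClosedImmersion c] :
    FGA.hilbPull f g I = c.ker ↔ ∃ i : Y ⟶ I.subscheme,
      IsPullback i (c ≫ PicF.XTproj f T) (I.subschemeι ≫ PicF.XTproj f H) g.left ∧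
      i ≫ I.subschemeι = c ≫ PicF.XTmap f g := by
  constructor
  · intro h
    obtain ⟨m, hm⟩ : ∃ m : c.ker.subscheme ⟶ I.subscheme,
        IsPullback m c.ker.subschemeι I.subschemeι (PicF.XTmap f g) := by
      rw [← h]
      exact isPullback_pull f g I
    have hm' : IsPullback (c.toImage ≫ m) c I.subschemeι (PicF.XTmap f g) := by
      refine hm.of_iso (asIso c.toImage).symm (Iso.refl _) (Iso.refl _) (Iso.refl _) ?_ ?_ ?_ ?_
      · simp
      · have := c.toImage_imageι
        change c.ker.subschemeι ≫ 𝟙 _ = inv c.toImage ≫ c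
        rw [Category.comp_id, IsIso.eq_inv_comp]
        exact this
      · simp
      · simp
    exact ⟨c.toImage ≫ m, hm'.paste_vert (isPullback_XTmap f g), hm'.w⟩
  · rintro ⟨i, hi, hw⟩
    have h : IsPullback i c I.subschemeι (PicF.XTmap f g) := IsPullback.of_bot hi hw (isPullback_XTmap f g)
    have h1 : c = h.isoPullback.hom ≫ pullback.snd I.subschemeι (PicF.XTmap f g) := h.isoPullback_hom_snd.symm
    rw [h1, Scheme.Hom.ker_comp_of_isIso]
    rfl

variable {W : Scheme.{u}} (K : ℕ) (s : W ⟶ PZ K)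

/-- the scheme `Spec ℤ` -/
noncomputable abbrev SZ : Scheme.{u} := Spec (CommRingCat.of (ULift.{u} ℤ))

/-- `W ⟶ P^K` over `Spec ℤ` -/
noncomputable abbrev toP : W ⟶ CohB1.ProjSpaceOver K SZ.{u} := liftP s (specULiftZIsTerminal.from W)

instance [IsClosedImmersion s] : IsClosedImmersion (toP K s) := by
  have h : toP K s ≫ toZ K SZ.{u} = s := liftP_toZ _ _
  have : IsClosedImmersion (toP K s ≫ toZ K SZ.{u}) := by rw [h]; infer_instance
  have : IsSeparated (toZ K SZ.{u}) := by
    refine MorphismProperty.of_isPullback (P := @IsSeparated) (isPullback_toZ K SZ.{u}).flip ?_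
    infer_instance
  exact IsClosedImmersion.of_comp (toP K s) (toZ K SZ.{u})

/-- the structure morphism of `W` -/
noncomputable abbrev fW : W ⟶ SZ.{u} := toP K s ≫ CohB1.ProjSpaceOver.toBase K SZ

/-- `W × T ⟶ P^K_T`. -/
noncomputable abbrev theta (T : Over SZ.{u}) : PicF.XT (fW K s) T ⟶ CohB1.ProjSpaceOver K T.left :=
  liftP (pullback.fst (fW K s) T.hom ≫ s) (pullback.snd (fW K s) T.hom)

theorem isPullback_theta (T : Over SZ.{u}) :
    IsPullback (pullback.fst (fW K s) T.hom) (theta K s T) s (toZ K T.left) := by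
  refine IsPullback.of_bot (v₂₁ := CohB1.ProjSpaceOver.toBase K T.left) (v₂₂ := specULiftZIsTerminal.from _)
    (h₃₁ := specULiftZIsTerminal.from _) ?_ (liftP_toZ _ _).symm
    (by
      have h0 : specULiftZIsTerminal.from (PZ.{u} K) = CohB1.ProjSpace.toSpec K (ULift.{u} ℤ) :=
        specULiftZIsTerminal.hom_ext _ _
      rw [h0]
      exact isPullback_toZ K T.left)
  rw [liftP_toBase]
  have h1 : s ≫ specULiftZIsTerminal.from (PZ K) = fW K s := specULiftZIsTerminal.hom_ext _ _
  have h2 : specULiftZIsTerminal.from T.left = T.hom := specULiftZIsTerminal.hom_ext _ _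
  rw [h1, h2]
  exact IsPullback.of_hasPullback _ _

instance [IsClosedImmersion s] (T : Over SZ.{u}) : IsClosedImmersion (theta K s T) :=
  MorphismProperty.of_isPullback (P := @IsClosedImmersion) (isPullback_theta K s T) inferInstance

/-- The universal property on the class of locally Noetherian schemes. -/
def UPOn (P : Scheme.{u} → Prop) {H Z : Scheme.{u}} (qH : Z ⟶ H) (jH : Z ⟶ W) : Prop :=
  ∀ {T X : Scheme.{u}} (q : X ⟶ T) (j : X ⟶ W), P T → IsEmb K q (j ≫ s) →
    ∃! g : T ⟶ H, ∃ i : X ⟶ Z, IsPullback i q qH g ∧ i ≫ jH = j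

theorem locallyOfFiniteType_of_sigma {ι : Type u} {P : ι → Scheme.{u}} {H S : Scheme.{u}} (h : H ⟶ S)
    (e : (∐ P) ≅ H) (hP : ∀ a, LocallyOfFiniteType (Sigma.ι P a ≫ e.hom ≫ h)) : LocallyOfFiniteType h := by
  have h1 : LocallyOfFiniteType (e.hom ≫ h) := by
    rw [IsZariskiLocalAtSource.iff_of_openCover (P := @LocallyOfFiniteType) (sigmaOpenCover P)]
    intro a
    exact hP a
  have h2 : h = e.inv ≫ e.hom ≫ h := by simp
  rw [h2]
  infer_instance

/-- the closed immersion `X ⟶ W × T` of a family -/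
noncomputable abbrev cl {T : Over SZ.{u}} {X : Scheme.{u}} (q : X ⟶ T.left) (j : X ⟶ W) : X ⟶ PicF.XT (fW K s) T :=
  pullback.lift j q (specULiftZIsTerminal.hom_ext _ _)

theorem cl_theta {T : Over SZ.{u}} {X : Scheme.{u}} (q : X ⟶ T.left) (j : X ⟶ W) :
    cl K s q j ≫ theta K s T = liftP (j ≫ s) q := by
  apply hom_ext_over
  · rw [Category.assoc, liftP_toZ, liftP_toZ, pullback.lift_fst_assoc]
  · rw [Category.assoc, liftP_toBase, liftP_toBase, pullback.lift_snd]

theorem isClosedImmersion_cl [IsClosedImmersion s] {T : Over SZ.{u}} {X : Scheme.{u}} (q : X ⟶ T.left) (j : X ⟶ W)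
    (h : IsClosedImmersion (liftP (j ≫ s) q)) : IsClosedImmersion (cl K s q j) := by
  rw [← cl_theta] at h
  exact IsClosedImmersion.of_comp (cl K s q j) (theta K s T)

theorem exists_of_isPullback {X Y S T : Scheme.{u}} {f : T ⟶ X} {g : T ⟶ Y} {f' : X ⟶ S} {g' : Y ⟶ S}
    (h : IsPullback f g f' g') (x : X) (y : Y) (hxy : f' x = g' y) : ∃ t : T, f t = x ∧ g t = y := by
  obtain ⟨z, hz1, hz2⟩ := Scheme.Pullback.exists_preimage_pullback x y hxy
  refine ⟨h.isoPullback.inv z, ?_, ?_⟩
  · rw [← hz1, ← Scheme.Hom.comp_apply, h.isoPullback_inv_fst]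
  · rw [← hz2, ← Scheme.Hom.comp_apply, h.isoPullback_inv_snd]

theorem exists_hilb_ln [IsClosedImmersion s] :
    ∃ (H Z : Scheme.{u}) (qH : Z ⟶ H) (jH : Z ⟶ W),
    LocallyOfFiniteType (specULiftZIsTerminal.from H) ∧ IsEmb K qH (jH ≫ s) ∧
      UPOn K s IsLocallyNoetherian qH jH := by
  have : IsNoetherian SZ.{u} := inferInstance
  obtain ⟨H, Z, hHZ, ι, P, e, r, c, hc⟩ := Groth.Agent.S3218.result SZ.{u} K W (toP K s)
  have hft : LocallyOfFiniteType H.hom := by
    refine locallyOfFiniteType_of_sigma H.hom e fun a => ?_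
    obtain ⟨h1, h2⟩ := hc a
    rw [← h2]
    infer_instance
  have hHln : IsLocallyNoetherian H.left := hHZ.1
  set q₀ : Z.1.subscheme ⟶ H.left := Z.1.subschemeι ≫ PicF.XTproj (fW K s) H with hq₀
  set j₀ : Z.1.subscheme ⟶ W := Z.1.subschemeι ≫ pullback.fst (fW K s) H.hom with hj₀
  have hq₀p : IsProper q₀ := Z.2.1
  have hq₀f : Flat q₀ := Z.2.2
  have hj₀' : Z.1.subschemeι = cl K s q₀ j₀ := by
    apply pullback.hom_ext
    · rw [pullback.lift_fst]
    · rw [pullback.lift_snd]
  have hcl : IsClosedImmersion (liftP (j₀ ≫ s) q₀) := by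
    rw [← cl_theta, ← hj₀']
    infer_instance
  let F : Set Z.1.subscheme := {x | FlatMor.fibreDimAt q₀ x ≤ (1 : ℕ)}ᶜ
  have hF : IsClosed F := (Groth.Agent.S0402.result q₀ 1).isClosed_compl
  have hqF : IsClosed (q₀ '' F) := q₀.isClosedMap _ hF
  let V : H.left.Opens := ⟨(q₀ '' F)ᶜ, hqF.isOpen_compl⟩
  have hVln : IsLocallyNoetherian V.toScheme := inferInstance
  have sqV : IsPullback (pullback.fst q₀ V.ι) (pullback.snd q₀ V.ι) q₀ V.ι := IsPullback.of_hasPullback _ _
  refine ⟨V.toScheme, pullback q₀ V.ι, pullback.snd q₀ V.ι, pullback.fst q₀ V.ι ≫ j₀, ?_, ⟨?_, ?_, ?_, ?_⟩, ?_⟩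
  · have h1 : specULiftZIsTerminal.from V.toScheme = V.ι ≫ H.hom := specULiftZIsTerminal.hom_ext _ _
    rw [h1]
    infer_instance
  · rw [Category.assoc]
    exact MorphismProperty.of_isPullback (P := @IsClosedImmersion) (liftP_bc sqV (j₀ ≫ s)) hcl
  · exact MorphismProperty.of_isPullback (P := @Flat) sqV hq₀f
  · exact lfp_of_noeth _
  · intro x
    rw [Groth.Agent.Ega4fib.H172.FibDimBC.fibreDimAt_of_isPullback sqV x]
    by_contra hx
    have h1 : q₀ (pullback.fst q₀ V.ι x) ∈ q₀ '' F := ⟨_, hx, rfl⟩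
    have h2 : q₀ (pullback.fst q₀ V.ι x) = V.ι (pullback.snd q₀ V.ι x) := by
      rw [← Scheme.Hom.comp_apply, ← Scheme.Hom.comp_apply, sqV.w]
    have h3 : V.ι (pullback.snd q₀ V.ι x) ∈ V := by
      have : V.ι (pullback.snd q₀ V.ι x) ∈ Set.range V.ι := ⟨_, rfl⟩
      rwa [Scheme.Opens.range_ι] at this
    exact h3 (h2 ▸ h1)
  · intro T X q j hT hq
    let T' : Over SZ.{u} := Over.mk (specULiftZIsTerminal.from T)
    have hT' : IsLocallyNoetherian T'.left := hT
    have hc' : IsClosedImmersion (cl K s (T := T') q j) := isClosedImmersion_cl K s (T := T') q j hq.closed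
    set c := cl K s (T := T') q j with hcdef
    have hcq : c ≫ PicF.XTproj (fW K s) T' = q := pullback.lift_snd _ _ _
    have hcj : c ≫ pullback.fst (fW K s) T'.hom = j := pullback.lift_fst _ _ _
    have hqp : IsProper q := hq.isProper
    have hqf : Flat q := hq.flat
    have hker : c.ker.subschemeι ≫ PicF.XTproj (fW K s) T' = inv c.toImage ≫ q := by
      rw [IsIso.eq_inv_comp, ← hcq]
      exact c.toImage_imageι_assoc _
    have hY : IsProper (c.ker.subschemeι ≫ PicF.XTproj (fW K s) T') ∧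
        Flat (c.ker.subschemeι ≫ PicF.XTproj (fW K s) T') := by
      rw [hker]
      exact ⟨inferInstance, inferInstance⟩
    obtain ⟨g₀, hg₀, hu⟩ := hHZ.2 T' ⟨c.ker, hY⟩
    obtain ⟨i₀, hi₀, hi₀'⟩ := (hilbPull_eq_iff (fW K s) g₀ Z.1 c).1 hg₀
    rw [hcq] at hi₀
    have hi₀j : i₀ ≫ j₀ = j := by
      rw [hj₀, reassoc_of% hi₀', XTmap_fst, hcj]
    have hi₀q : IsPullback i₀ q q₀ g₀.left := hi₀
    have hran : Set.range g₀.left ⊆ Set.range V.ι := by
      rw [Scheme.Opens.range_ι]
      rintro _ ⟨t, rfl⟩ ⟨z, hz, hzt⟩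
      obtain ⟨x, hx, -⟩ := exists_of_isPullback hi₀q z t hzt
      have h1 := Groth.Agent.Ega4fib.H172.FibDimBC.fibreDimAt_of_isPullback hi₀q x
      apply hz
      change FlatMor.fibreDimAt q₀ z ≤ (1 : ℕ)
      rw [← hx, ← h1]
      exact hq.dim x
    let g₁ : T ⟶ V.toScheme := IsOpenImmersion.lift V.ι g₀.left hran
    have hg₁ : g₁ ≫ V.ι = g₀.left := IsOpenImmersion.lift_fac _ _ _
    refine ⟨g₁, ⟨pullback.lift i₀ (q ≫ g₁) (by rw [Category.assoc, hg₁, hi₀q.w]), ?_, ?_⟩, ?_⟩
    · refine IsPullback.of_right (h₁₂ := pullback.fst q₀ V.ι) (v₁₃ := q₀) (h₂₂ := V.ι) ?_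
        (pullback.lift_snd _ _ _) sqV
      rw [pullback.lift_fst, hg₁]
      exact hi₀q
    · rw [pullback.lift_fst_assoc, hi₀j]
    · rintro g₁' ⟨i', hi', hi'j⟩
      let g₀' : T' ⟶ H := Over.homMk (g₁' ≫ V.ι) (specULiftZIsTerminal.hom_ext _ _)
      have h1 : FGA.hilbPull (fW K s) g₀' Z.1 = c.ker := by
        rw [hilbPull_eq_iff]
        refine ⟨i' ≫ pullback.fst q₀ V.ι, ?_, ?_⟩
        · rw [hcq]
          exact hi'.paste_horiz sqV
        · apply pullback.hom_ext
          · have h2 := XTmap_fst (fW K s) g₀'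
            have h3 : ((i' ≫ pullback.fst q₀ V.ι) ≫ Z.1.subschemeι) ≫ pullback.fst (fW K s) H.hom = j := by
              rw [← hi'j, hj₀]
              simp only [Category.assoc]
            rw [h3, Category.assoc, h2, hcj]
          · have h2 := XTmap_snd (fW K s) g₀'
            have h3 : ((i' ≫ pullback.fst q₀ V.ι) ≫ Z.1.subschemeι) ≫ pullback.snd (fW K s) H.hom =
                (i' ≫ pullback.fst q₀ V.ι) ≫ q₀ := by
              simp only [Category.assoc]
              rfl
            have h4 := (hi'.paste_horiz sqV).w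
            rw [h3, h4, Category.assoc]
            change _ = c ≫ PicF.XTmap (fW K s) g₀' ≫ PicF.XTproj (fW K s) H
            rw [h2, reassoc_of% hcq]
            rfl
      have h2 := hu g₀' h1
      rw [← cancel_mono V.ι, hg₁, ← h2]
      rfl

end K740.Hilb
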